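import Mathlib.AlgebraicGeometry.IdealSheaf.Subscheme
import Mathlib.AlgebraicGeometry.Properties
import Mathlib.AlgebraicGeometry.Morphisms.ClosedImmersion

set_option autoImplicit false
set_option backward.isDefEq.respectTransparency.types false

universe u

open CategoryTheory Limits

namespace Groth.Agent.FpqcDescent

open AlgebraicGeometry

/-- The closed subscheme of a vanishing ideal sheaf is reduced. -/
instance isReduced_subscheme_vanishingIdeal {X : Scheme.{u}} (Z : TopologicalSpace.Closeds X) :
    IsReduced (Scheme.IdealSheafData.vanishingIdeal Z).subscheme := by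
  let I := Scheme.IdealSheafData.vanishingIdeal Z
  have : ∀ U : X.affineOpens, IsReduced ((I.subschemeCover.openCover).X U) := fun U ↦ by
    have h : (I.ideal U).IsRadical := by
      rw [Scheme.IdealSheafData.vanishingIdeal_ideal]
      exact PrimeSpectrum.isRadical_vanishingIdeal _
    have : _root_.IsReduced (Γ(X, U) ⧸ I.ideal U) :=
      (Ideal.isRadical_iff_quotient_reduced _).mp h
    change IsReduced (Spec (CommRingCat.of (Γ(X, U) ⧸ I.ideal U)))
    infer_instance
  exact @IsReduced.of_openCover _ I.subschemeCover.openCover this

end Groth.Agent.FpqcDescent
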