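import Mathlib.AlgebraicGeometry.Morphisms.QuasiCompact
import Mathlib.AlgebraicGeometry.Morphisms.UniversallyOpen
import Mathlib.AlgebraicGeometry.Fiber
import Mathlib.AlgebraicGeometry.Noetherian
import Mathlib.AlgebraicGeometry.Properties
import Mathlib.Topology.KrullDimension
import Mathlib.Topology.Sober
import Mathlib.RingTheory.Spectrum.Prime.ConstructibleSet

set_option autoImplicit false
set_option backward.isDefEq.respectTransparency.types false

universe u

open CategoryTheory Limits Topology TopologicalSpace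

namespace Groth.Agent.FpqcDescent

open AlgebraicGeometry

lemma exists_specializes_comap {A R : Type u} [CommRing A] [CommRing R] (φ : A →+* R)
    (p : PrimeSpectrum A) (hp : p ∈ closure (Set.range (PrimeSpectrum.comap φ))) :
    ∃ q, PrimeSpectrum.comap φ q ⤳ p := by
  rw [PrimeSpectrum.closure_range_comap] at hp
  obtain ⟨I, hI, hIp⟩ := Ideal.exists_minimalPrimes_le (J := p.asIdeal) hp
  obtain ⟨q, hq, -, hqI⟩ := Ideal.exists_comap_eq_of_mem_minimalPrimes φ (I := ⊥) I hI
  refine ⟨⟨q, hq⟩, ?_⟩
  rw [← PrimeSpectrum.le_iff_specializes]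
  change q.comap φ ≤ p.asIdeal
  rw [hqI]
  exact hIp

/-- A point in the closure of the image of a quasi-compact morphism is a specialization of a point
of the image. -/
lemma exists_specializes_of_mem_closure_range {Z X : Scheme.{u}} (g : Z ⟶ X) [QuasiCompact g]
    {x : X} (hx : x ∈ closure (Set.range g.base)) : ∃ z, g.base z ⤳ x := by
  obtain ⟨_, ⟨V, hV, rfl⟩, hxV, -⟩ :=
    X.isBasis_affineOpens.exists_subset_of_mem_open (Set.mem_univ x) isOpen_univ
  obtain ⟨R, k, hk⟩ := isCompact_iff_exists.mp (g.isCompact_preimage hV.isCompact)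
  have hsub : Set.range (k ≫ g).base ⊆ Set.range hV.fromSpec.base := by
    rw [hV.range_fromSpec]
    rintro _ ⟨r, rfl⟩
    exact show k.base r ∈ ((g ⁻¹ᵁ V : Z.Opens) : Set Z) from hk ▸ ⟨r, rfl⟩
  let ψ := IsOpenImmersion.lift hV.fromSpec (k ≫ g) hsub
  obtain ⟨φ, hφ⟩ := Spec.map_surjective ψ
  have hfac : ∀ r, hV.fromSpec.base ((Spec.map φ).base r) = g.base (k.base r) := fun r ↦ by
    rw [hφ, ← Scheme.Hom.comp_apply, IsOpenImmersion.lift_fac]
    rfl
  obtain ⟨p, hp⟩ : x ∈ Set.range hV.fromSpec.base := by rw [hV.range_fromSpec]; exact hxV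
  have hp' : p ∈ closure (Set.range (Spec.map φ).base) := by
    rw [mem_closure_iff]
    intro W hW hpW
    obtain ⟨-, ⟨w, hw, rfl⟩, z, hz⟩ := mem_closure_iff.mp hx _
      (hV.fromSpec.isOpenEmbedding.isOpenMap W hW) ⟨p, hpW, hp⟩
    have hzV : z ∈ ((g ⁻¹ᵁ V : Z.Opens) : Set Z) := by
      change g.base z ∈ (V : Set X)
      rw [hz, ← hV.range_fromSpec]
      exact ⟨w, rfl⟩
    rw [← hk] at hzV
    obtain ⟨r, rfl⟩ := hzV
    exact ⟨w, hw, r, hV.fromSpec.isOpenEmbedding.injective ((hfac r).trans hz)⟩
  obtain ⟨q, hq⟩ := exists_specializes_comap φ.hom p hp'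
  refine ⟨k.base q, ?_⟩
  rw [← hfac q, ← hp]
  exact hq.map hV.fromSpec.continuous

lemma isClosed_range_iff_stableUnderSpecialization {X S : Scheme.{u}} (f : X ⟶ S) [QuasiCompact f] :
    IsClosed (Set.range f.base) ↔ StableUnderSpecialization (Set.range f.base) := by
  refine ⟨fun h ↦ h.stableUnderSpecialization, fun h ↦ ?_⟩
  refine isClosed_of_closure_subset fun x hx ↦ ?_
  obtain ⟨z, hz⟩ := exists_specializes_of_mem_closure_range f hx
  exact h hz ⟨z, rfl⟩

lemma generalizingMap_of_isOpenMap {X Y : Scheme.{u}} (f : X ⟶ Y) (hf : IsOpenMap f.base) :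
    GeneralizingMap f.base := by
  intro x y' hy'
  have : QuasiCompact (Y.fromSpecResidueField y') :=
    ⟨fun U _ _ ↦ (Set.toFinite _).isCompact⟩
  have : QuasiCompact (f.fiberι y') :=
    MorphismProperty.pullback_fst (P := @QuasiCompact) _ _ ‹_›
  have hcl : x ∈ closure (Set.range (f.fiberι y').base) := by
    rw [Scheme.Hom.range_fiberι]
    exact hf.preimage_closure_subset_closure_preimage hy'.mem_closure
  obtain ⟨z, hz⟩ := exists_specializes_of_mem_closure_range (f.fiberι y') hcl
  exact ⟨_, hz, show f.base _ = y' from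
    (Scheme.Hom.range_fiberι f y').le ⟨z, rfl⟩⟩

lemma isOpen_of_isClosed_of_stableUnderGeneralization {Y : Scheme.{u}} [IsLocallyNoetherian Y]
    (W : Set Y) (hW : IsClosed W) (hgen : StableUnderGeneralization W) : IsOpen W := by
  rw [isOpen_iff_forall_mem_open]
  intro y hy
  obtain ⟨_, ⟨V, hV, rfl⟩, hyV, -⟩ :=
    Y.isBasis_affineOpens.exists_subset_of_mem_open (Set.mem_univ y) isOpen_univ
  have : IsNoetherianRing Γ(Y, V) := IsLocallyNoetherian.component_noetherian ⟨V, hV⟩
  let W' : Set (PrimeSpectrum Γ(Y, V)) := hV.fromSpec.base ⁻¹' W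
  have h1 : IsClosed W' := hW.preimage hV.fromSpec.continuous
  have h2 : IsConstructible W' := by
    rw [← isConstructible_compl]
    exact ((TopologicalSpace.NoetherianSpace.isCompact _).isRetrocompact h1.isOpen_compl).isConstructible h1.isOpen_compl
  have h3 : IsOpen W' := PrimeSpectrum.isOpen_of_stableUnderGeneralization_of_isConstructible
    (hgen.preimage hV.fromSpec.continuous) h2
  refine ⟨hV.fromSpec.base '' W', Set.image_preimage_subset _ _,
    hV.fromSpec.isOpenEmbedding.isOpenMap _ h3, ?_⟩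
  obtain ⟨p, rfl⟩ : y ∈ Set.range hV.fromSpec.base := by rw [hV.range_fromSpec]; exact hyV
  exact ⟨p, hy, rfl⟩

attribute [local instance] specializationOrder in
lemma topologicalKrullDim_le_of_generalizingMap {α β : Type*} [TopologicalSpace α]
    [TopologicalSpace β] [QuasiSober α] [T0Space α] [QuasiSober β] [T0Space β] (f : α → β)
    (hf : GeneralizingMap f) (hs : Function.Surjective f) :
    topologicalKrullDim β ≤ topologicalKrullDim α := by
  rw [topologicalKrullDim, topologicalKrullDim, Order.krullDim_eq_of_orderIso irreducibleSetEquivPoints,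
    Order.krullDim_eq_of_orderIso irreducibleSetEquivPoints]
  have key : ∀ (s : LTSeries β) (a : α), f a = s.head →
      ∃ t : LTSeries α, t.head = a ∧ t.length = s.length := by
    intro s
    induction s using RelSeries.inductionOn with
    | singleton b => exact fun a _ ↦ ⟨RelSeries.singleton _ a, rfl, rfl⟩
    | cons p b hbp ih =>
      intro a ha
      simp only [RelSeries.head_cons] at ha
      obtain ⟨a', ha', hfa'⟩ := hf (show p.head ⤳ f a from ha ▸ (show b < p.head from hbp).le)
      obtain ⟨t, ht, htl⟩ := ih a' hfa'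
      have hlt : b < p.head := hbp
      have hne : a ≠ a' := fun h ↦ hlt.ne (by rw [← hfa', ← h, ha])
      refine ⟨t.cons a ?_, RelSeries.head_cons _ _ _, ?_⟩
      · rw [ht]
        exact lt_of_le_of_ne (show a ≤ a' from ha') hne
      · simp [htl]
  refine iSup_le fun s ↦ ?_
  obtain ⟨a, ha⟩ := hs s.head
  obtain ⟨t, -, htl⟩ := key s a ha
  rw [← htl]
  exact le_iSup (fun t : LTSeries α ↦ (t.length : WithBot ℕ∞)) t

lemma topologicalKrullDim_range_le_of_isOpenMap {X Y : Scheme.{u}} (f : X ⟶ Y)
    (hf : IsOpenMap f.base) :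
    topologicalKrullDim ↥(Set.range f.base) ≤ topologicalKrullDim ↥X := by
  have : QuasiSober (Set.range f.base) := hf.isOpen_range.isOpenEmbedding_subtypeVal.quasiSober
  refine topologicalKrullDim_le_of_generalizingMap (Set.rangeFactorization f.base) ?_
    Set.rangeFactorization_surjective
  intro x y hy
  obtain ⟨x', hx', hxy⟩ := generalizingMap_of_isOpenMap f hf (hy.map continuous_subtype_val)
  exact ⟨x', hx', Subtype.ext hxy⟩

end Groth.Agent.FpqcDescent
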