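import Mathlib.AlgebraicGeometry.Morphisms.LocalFlatDescent
import Mathlib.AlgebraicGeometry.Morphisms.Proper
import Mathlib.AlgebraicGeometry.Morphisms.ClosedImmersion
import Mathlib.AlgebraicGeometry.Morphisms.Integral
import Mathlib.AlgebraicGeometry.Morphisms.Separated
import Mathlib.AlgebraicGeometry.Pullbacks

set_option autoImplicit false
set_option backward.isDefEq.respectTransparency.types false

universe u

open CategoryTheory Limits MorphismProperty TopologicalSpace

namespace Groth.Agent.FpqcDescent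

open AlgebraicGeometry

/-- Quasi-compactness descends along surjective quasi-compact morphisms. -/
instance descendsAlong_quasiCompact :
    DescendsAlong @QuasiCompact (@Surjective ⊓ @QuasiCompact : MorphismProperty Scheme.{u}) := by
  apply DescendsAlong.mk'
  intro X Y Z f g _ hf h
  have : Surjective f := hf.1
  have : QuasiCompact f := hf.2
  refine ⟨fun U hU hU' ↦ ?_⟩
  have h1 : IsCompact ((pullback.fst f g).base ⁻¹' (f.base ⁻¹' U)) :=
    h.1 _ (hU.preimage f.continuous) (QuasiCompact.isCompact_preimage U hU hU')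
  have h2 : (pullback.fst f g).base ⁻¹' (f.base ⁻¹' U) =
      (pullback.snd f g).base ⁻¹' (g.base ⁻¹' U) := by
    ext x
    simp only [Set.mem_preimage, ← Scheme.Hom.comp_apply, pullback.condition]
  have h3 : Function.Surjective (pullback.snd f g).base :=
    (pullback.snd f g).surjective
  rw [h2] at h1
  simpa [Set.image_preimage_eq _ h3] using h1.image (pullback.snd f g).continuous

instance descendsAlong_quasiCompact_fpqc :
    DescendsAlong @QuasiCompact (@Surjective ⊓ @Flat ⊓ @QuasiCompact : MorphismProperty Scheme.{u}) :=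
  .of_le (Q := @Surjective ⊓ @QuasiCompact) (fun _ _ _ h ↦ ⟨h.1.1, h.2⟩)

instance descendsAlong_quasiSeparated_fpqc :
    DescendsAlong @QuasiSeparated (@Surjective ⊓ @Flat ⊓ @QuasiCompact : MorphismProperty Scheme.{u}) := by
  rw [quasiSeparated_eq_diagonal_is_quasiCompact]
  infer_instance

lemma appLE_top {X Y : Scheme.{u}} (f : X ⟶ Y) (e : ⊤ ≤ f ⁻¹ᵁ ⊤) :
    f.appLE ⊤ ⊤ e = f.appTop :=
  Scheme.Hom.appLE_eq_app f

/-- Affineness over an affine base descends along faithfully flat ring maps. -/
lemma isAffine_of_isAffine_pullback {R S : CommRingCat.{u}} (φ : R ⟶ S) [Flat (Spec.map φ)]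
    [Surjective (Spec.map φ)] {Y : Scheme.{u}} (g : Y ⟶ Spec R) [CompactSpace Y]
    [QuasiSeparatedSpace Y] [hP : IsAffine (pullback (Spec.map φ) g)] : IsAffine Y := by
  let f := Spec.map φ
  let H : IsPullback (pullback.snd f g) (pullback.fst f g) g f := (IsPullback.of_hasPullback f g).flip
  have hiso := isIso_pushoutSection_of_isQuasiSeparated_of_flat_right H
    (US := ⊤) (UT := ⊤) (UX := ⊤) (UY := ⊤) (hUST := le_top) (hUSX := le_top) (hUY := by simp)
    (isAffineOpen_top _) (isAffineOpen_top _) isCompact_univ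
    (isQuasiSeparated_univ_iff.mpr inferInstance)
  have hpo := (isIso_pushoutSection_iff (f := f) H le_top le_top (by simp)).mp hiso
  simp only [appLE_top] at hpo
  have hsq : IsPullback (Spec.map (pullback.snd f g).appTop) (Spec.map (pullback.fst f g).appTop)
      (Spec.map g.appTop) (Spec.map f.appTop) :=
    isPullback_SpecMap_of_isPushout _ _ _ _ hpo
  let e : Spec R ⟶ Spec Γ(Spec R, ⊤) := (Spec R).toSpecΓ
  let a : Spec Γ(Y, ⊤) ⟶ Spec R := Spec.map g.appTop ≫ inv e
  have hga : g = Y.toSpecΓ ≫ a := by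
    simp [a, e, ← Scheme.toSpecΓ_naturality_assoc]
  let fA : Spec Γ(pullback f g, ⊤) ⟶ Spec Γ(Y, ⊤) := Spec.map (pullback.snd f g).appTop
  let eS : (Spec S) ⟶ Spec Γ(Spec S, ⊤) := (Spec S).toSpecΓ
  have hsq' : IsPullback fA (Spec.map (pullback.fst f g).appTop ≫ inv eS) a f := by
    refine hsq.of_iso (Iso.refl _) (Iso.refl _) (asIso eS).symm (asIso e).symm ?_ ?_ ?_ ?_
    · simp [fA]
    · simp
    · simp [a]
    · simp [eS, e, f, ← Scheme.toSpecΓ_naturality_assoc]
  have hleft : IsPullback (pullback.snd f g) (pullback f g).toSpecΓ Y.toSpecΓ fA := by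
    refine IsPullback.of_bot ?_ (Scheme.toSpecΓ_naturality _) hsq'
    rw [← hga]
    convert H using 1
    simp [eS, ← Scheme.toSpecΓ_naturality_assoc]
  have hfA : (@Surjective ⊓ @Flat ⊓ @QuasiCompact : MorphismProperty Scheme.{u}) fA :=
    MorphismProperty.of_isPullback hsq'.flip ⟨⟨inferInstance, inferInstance⟩, inferInstance⟩
  have : (MorphismProperty.isomorphisms Scheme.{u}) Y.toSpecΓ :=
    MorphismProperty.of_isPullback_of_descendsAlong (P := isomorphisms Scheme.{u})
      hleft.flip hfA (inferInstanceAs (IsIso _))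
  have : IsIso Y.toSpecΓ := this
  exact .of_isIso Y.toSpecΓ

lemma isZariskiCover_le :
    (@IsLocalIso ⊓ @Surjective : MorphismProperty Scheme.{u}) ≤ (@Surjective ⊓ @Flat : MorphismProperty Scheme.{u}) := by
  rw [inf_comm]
  exact inf_le_inf le_rfl (IsLocalIso.le_of_isZariskiLocalAtSource _)

instance descendsAlong_isAffineHom_fpqc :
    DescendsAlong @IsAffineHom (@Surjective ⊓ @Flat ⊓ @QuasiCompact : MorphismProperty Scheme.{u}) := by
  refine IsZariskiLocalAtTarget.descendsAlong_inf_quasiCompact _ _ isZariskiCover_le ?_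
  intro R S Y φ g hφ h
  have : Surjective (Spec.map φ) := hφ.1
  have : Flat (Spec.map φ) := hφ.2
  have : QuasiCompact g :=
    of_pullback_fst_of_descendsAlong (P := @QuasiCompact) (f := Spec.map φ)
      (Q := @Surjective ⊓ @Flat ⊓ @QuasiCompact) ⟨hφ, inferInstance⟩
      (inferInstanceAs (QuasiCompact (pullback.fst _ _)))
  have : QuasiSeparated g :=
    of_pullback_fst_of_descendsAlong (P := @QuasiSeparated) (f := Spec.map φ)
      (Q := @Surjective ⊓ @Flat ⊓ @QuasiCompact) ⟨hφ, inferInstance⟩
      (inferInstanceAs (QuasiSeparated (pullback.fst _ _)))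
  have : CompactSpace Y := QuasiCompact.compactSpace_of_compactSpace g
  have : QuasiSeparatedSpace Y := quasiSeparatedSpace_of_quasiSeparated g
  have : IsAffine (pullback (Spec.map φ) g) := isAffine_of_isAffineHom (pullback.fst (Spec.map φ) g)
  have := isAffine_of_isAffine_pullback φ g
  infer_instance

lemma faithfullyFlat_of_surjective_flat_SpecMap {R S : CommRingCat.{u}} (f : R ⟶ S)
    (h : (@Surjective ⊓ @Flat : MorphismProperty Scheme.{u}) (Spec.map f)) :
    f.hom.FaithfullyFlat := by
  rw [← flat_and_surjective_SpecMap_iff]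
  exact ⟨h.2, h.1⟩

instance descendsAlong_isClosedImmersion_fpqc :
    DescendsAlong @IsClosedImmersion (@Surjective ⊓ @Flat ⊓ @QuasiCompact : MorphismProperty Scheme.{u}) := by
  refine IsZariskiLocalAtTarget.descendsAlong_inf_quasiCompact _ _ isZariskiCover_le ?_
  intro R S Y φ g hφ h
  have hA : IsAffineHom g :=
    of_pullback_fst_of_descendsAlong (P := @IsAffineHom) (f := Spec.map φ)
      (Q := @Surjective ⊓ @Flat ⊓ @QuasiCompact) ⟨hφ, inferInstance⟩
      (inferInstanceAs (IsAffineHom (pullback.fst _ _)))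
  have : IsAffine Y := isAffine_of_isAffineHom g
  wlog hY : ∃ T, Y = Spec T generalizing Y
  · rw [← MorphismProperty.cancel_left_of_respectsIso @IsClosedImmersion Y.isoSpec.inv]
    have heq : pullback.fst (Spec.map φ) (Y.isoSpec.inv ≫ g) =
        pullback.map _ _ _ _ (𝟙 _) (Y.isoSpec.inv) (𝟙 _) (by simp) (by simp) ≫
          pullback.fst (Spec.map φ) g := (pullback.lift_fst _ _ _).symm
    refine this _ ?_ inferInstance inferInstance ⟨_, rfl⟩
    rw [heq]
    infer_instance
  obtain ⟨T, rfl⟩ := hY
  refine of_pullback_fst_Spec_of_codescendsAlong (P := @IsClosedImmersion)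
    (P' := @Surjective ⊓ @Flat) (Q := fun f ↦ Function.Surjective f)
    (Q' := RingHom.FaithfullyFlat) RingHom.FaithfullyFlat.codescendsAlong_surjective
    (fun {_ _} f hf ↦ faithfullyFlat_of_surjective_flat_SpecMap f hf) ?_ hφ h
  intro R S f
  exact ⟨fun _ ↦ by
    have h' := (IsClosedImmersion.isAffine_surjective_of_isAffine (Spec.map f)).2
    exact (RingHom.surjective_respectsIso.arrow_mk_iso_iff (arrowIsoΓSpecOfIsAffine f)).mpr h', fun hf ↦ IsClosedImmersion.spec_of_surjective f hf⟩

instance descendsAlong_isSeparated_fpqc :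
    DescendsAlong @IsSeparated (@Surjective ⊓ @Flat ⊓ @QuasiCompact : MorphismProperty Scheme.{u}) := by
  rw [IsSeparated.isSeparated_eq_diagonal_isClosedImmersion]
  infer_instance

instance descendsAlong_isProper_fpqc :
    DescendsAlong @IsProper (@Surjective ⊓ @Flat ⊓ @QuasiCompact : MorphismProperty Scheme.{u}) := by
  rw [isProper_eq]
  infer_instance

instance descendsAlong_isFinite_fpqc :
    DescendsAlong @IsFinite (@Surjective ⊓ @Flat ⊓ @QuasiCompact : MorphismProperty Scheme.{u}) := by
  rw [IsFinite.eq_isProper_inf_isAffineHom]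
  infer_instance

instance descendsAlong_isIntegralHom_fpqc :
    DescendsAlong @IsIntegralHom (@Surjective ⊓ @Flat ⊓ @QuasiCompact : MorphismProperty Scheme.{u}) := by
  rw [IsIntegralHom.eq_universallyClosed_inf_isAffineHom]
  infer_instance

end Groth.Agent.FpqcDescent
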