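import Mathlib.AlgebraicGeometry.Morphisms.Flat
import Mathlib.RingTheory.Flat.FaithfullyFlat.Algebra
import Mathlib.LinearAlgebra.TensorProduct.Tower

set_option autoImplicit false
set_option backward.isDefEq.respectTransparency.types false

universe u

open CategoryTheory Limits TensorProduct

namespace Groth.Agent.FpqcDescent

/-- If `A → B → C` with `B → C` faithfully flat and `A → C` flat, then `A → B` is flat. -/
lemma flat_of_faithfullyFlat_of_flat (A B C : Type u) [CommRing A] [CommRing B] [CommRing C]
    [Algebra A B] [Algebra A C] [Algebra B C] [IsScalarTower A B C] [Module.FaithfullyFlat B C]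
    [Module.Flat A C] : Module.Flat A B := by
  rw [Module.Flat.iff_lTensor_preserves_injective_linearMap]
  intro N P _ _ _ _ f hf
  let g : B ⊗[A] N →ₗ[B] B ⊗[A] P := TensorProduct.AlgebraTensorModule.map LinearMap.id f
  suffices Function.Injective g by exact this
  rw [← Module.FaithfullyFlat.lTensor_injective_iff_injective B C]
  let eN := TensorProduct.AlgebraTensorModule.cancelBaseChange A B B C N
  let eP := TensorProduct.AlgebraTensorModule.cancelBaseChange A B B C P
  have h : ∀ x, eP (g.lTensor C x) = f.lTensor C (eN x) := by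
    intro x
    induction x with
    | zero => simp
    | add x y hx hy => simp only [map_add, hx, hy]
    | tmul c y =>
      induction y with
      | zero => simp
      | add x y hx hy => simp only [tmul_add, map_add, hx, hy]
      | tmul b n => simp [g, eN, eP]
  intro x y hxy
  apply eN.injective
  apply Module.Flat.lTensor_preserves_injective_linearMap (M := C) f hf
  rw [← h, ← h, hxy]

open AlgebraicGeometry

lemma flat_of_comp_of_faithfullyFlat {A B C : Type u} [CommRing A] [CommRing B] [CommRing C]
    {g : A →+* B} {f : B →+* C} (hf : f.FaithfullyFlat) (hfg : (f.comp g).Flat) : g.Flat := by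
  algebraize [g, f, f.comp g]
  have : Module.Flat A C := hfg
  exact flat_of_faithfullyFlat_of_flat A B C

lemma flat_comp_iff_of_faithfullyFlat {A B C : Type u} [CommRing A] [CommRing B] [CommRing C]
    {g : A →+* B} {f : B →+* C} (hf : f.FaithfullyFlat) : (f.comp g).Flat ↔ g.Flat :=
  ⟨flat_of_comp_of_faithfullyFlat hf, fun h ↦ h.comp hf.flat⟩

lemma faithfullyFlat_stalkMap {X Y : Scheme.{u}} (f : X ⟶ Y) (x : X)
    (hf : (f.stalkMap x).hom.Flat) : (f.stalkMap x).hom.FaithfullyFlat := by
  algebraize [(f.stalkMap x).hom]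
  have : IsLocalHom (algebraMap (Y.presheaf.stalk (f.base x)) (X.presheaf.stalk x)) :=
    inferInstanceAs (IsLocalHom (f.stalkMap x).hom)
  exact Module.FaithfullyFlat.of_flat_of_isLocalHom

lemma flat_stalkMap_comp_iff {X Y Z : Scheme.{u}} (f : X ⟶ Y) (g : Y ⟶ Z) (x : X)
    (hf : (f.stalkMap x).hom.Flat) :
    ((f ≫ g).stalkMap x).hom.Flat ↔ (g.stalkMap (f x)).hom.Flat := by
  rw [Scheme.Hom.stalkMap_comp]
  exact flat_comp_iff_of_faithfullyFlat (faithfullyFlat_stalkMap f x hf)

lemma flat_of_flat_comp {X' X Y : Scheme.{u}} (f : X' ⟶ X) (g : X ⟶ Y) [Flat f] [Surjective f]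
    [Flat (f ≫ g)] : Flat g := by
  rw [Flat.iff_flat_stalkMap]
  intro x
  obtain ⟨x', rfl⟩ := f.surjective x
  exact (flat_stalkMap_comp_iff f g x' (Flat.stalkMap f x')).mp (Flat.stalkMap _ x')

lemma isReduced_of_flat_surjective {X Y : Scheme.{u}} (f : X ⟶ Y) [Flat f] [Surjective f]
    [IsReduced X] : IsReduced Y := by
  have : ∀ y : Y, _root_.IsReduced (Y.presheaf.stalk y) := fun y ↦ by
    obtain ⟨x, rfl⟩ := f.surjective y
    exact isReduced_of_injective (f.stalkMap x).hom
      (faithfullyFlat_stalkMap f x (Flat.stalkMap f x)).injective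
  exact isReduced_of_isReduced_stalk Y

end Groth.Agent.FpqcDescent
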