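import Groth.Agent.FpqcDescent.Flat

set_option autoImplicit false
set_option backward.isDefEq.respectTransparency.types false

universe u

open CategoryTheory Limits TensorProduct

namespace Groth.Agent.FpqcDescent

/-- If `A → B → C` is flat and the composition `B → C → D` is faithfully flat, then `A → B` is flat. -/
lemma flat_of_factor_faithfullyFlat (A B C D : Type u) [CommRing A] [CommRing B] [CommRing C]
    [CommRing D] [Algebra A B] [Algebra A C] [Algebra B C] [IsScalarTower A B C]
    [Algebra B D] [Module.FaithfullyFlat B D] (h : C →ₐ[B] D) [Module.Flat A C] :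
    Module.Flat A B := by
  rw [Module.Flat.iff_lTensor_preserves_injective_linearMap]
  intro N P _ _ _ _ f hf
  let g : B ⊗[A] N →ₗ[B] B ⊗[A] P := TensorProduct.AlgebraTensorModule.map LinearMap.id f
  suffices Function.Injective g by exact this
  let eN := TensorProduct.AlgebraTensorModule.cancelBaseChange A B B C N
  let eP := TensorProduct.AlgebraTensorModule.cancelBaseChange A B B C P
  have hcomm : ∀ x, eP (g.lTensor C x) = f.lTensor C (eN x) := by
    intro x
    induction x with
    | zero => simp
    | add x y hx hy => simp only [map_add, hx, hy]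
    | tmul c y =>
      induction y with
      | zero => simp
      | add x y hx hy => simp only [tmul_add, map_add, hx, hy]
      | tmul b n => simp [g, eN, eP]
  have hmk : Function.Injective (TensorProduct.mk B C (B ⊗[A] N) 1) := by
    intro x y hxy
    apply Module.FaithfullyFlat.tensorProduct_mk_injective (A := B) (B := D) (B ⊗[A] N)
    have := congr_arg (h.toLinearMap.rTensor (B ⊗[A] N)) hxy
    simpa using this
  intro x y hxy
  apply hmk
  apply eN.injective
  apply Module.Flat.lTensor_preserves_injective_linearMap (M := C) f hf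
  rw [← hcomm, ← hcomm]
  simp [hxy]

open AlgebraicGeometry

lemma flat_of_comp_of_factor {A B C D : Type u} [CommRing A] [CommRing B] [CommRing C] [CommRing D]
    {g : A →+* B} {f : B →+* C} {h : C →+* D} (hh : (h.comp f).FaithfullyFlat)
    (hfg : (f.comp g).Flat) : g.Flat := by
  algebraize [g, f, f.comp g, h.comp f]
  have : Module.Flat A C := hfg
  exact flat_of_factor_faithfullyFlat A B C D { toRingHom := h, commutes' := fun _ ↦ rfl }

lemma flat_of_flat_comp_of_factor {X Y Z Y' : Scheme.{u}} (f : X ⟶ Y) (q : Y ⟶ Z) (g : Y' ⟶ Y)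
    [Flat g] [Surjective g] (l : Y' ⟶ X) (hl : l ≫ f = g) [Flat (f ≫ q)] : Flat q := by
  subst hl
  rw [Flat.iff_flat_stalkMap]
  intro y
  obtain ⟨y', rfl⟩ := (l ≫ f).surjective y
  have h1 := faithfullyFlat_stalkMap (l ≫ f) y' (Flat.stalkMap _ y')
  rw [Scheme.Hom.stalkMap_comp] at h1
  have h2 := Flat.stalkMap (f ≫ q) (l y')
  rw [Scheme.Hom.stalkMap_comp] at h2
  exact flat_of_comp_of_factor h1 h2

end Groth.Agent.FpqcDescent
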