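import Mathlib.AlgebraicGeometry.IdealSheaf.Functorial
import Mathlib.AlgebraicGeometry.Morphisms.Affine
import Mathlib.AlgebraicGeometry.Morphisms.ClosedImmersion

set_option autoImplicit false
set_option backward.isDefEq.respectTransparency.types false

universe u

open CategoryTheory Limits

namespace Groth.Agent.FpqcDescent

open AlgebraicGeometry AlgebraicGeometry.Scheme

/-- The kernel of a pushout of a surjection of rings is the extended ideal. -/
lemma ker_eq_map_of_isPushout {A B C D : CommRingCat.{u}} {φ : A ⟶ C} {π : A ⟶ B} {q : C ⟶ D}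
    {ψ : B ⟶ D} (h : IsPushout φ π q ψ) (hπ : Function.Surjective π.hom) :
    RingHom.ker q.hom = (RingHom.ker π.hom).map φ.hom := by
  refine le_antisymm ?_ ?_
  · let I := (RingHom.ker π.hom).map φ.hom
    let χ : C ⟶ CommRingCat.of (C ⧸ I) := CommRingCat.ofHom (Ideal.Quotient.mk I)
    have hle : RingHom.ker π.hom ≤ RingHom.ker ((Ideal.Quotient.mk I).comp φ.hom) := fun a ha ↦ by
      simp only [RingHom.mem_ker, RingHom.comp_apply, Ideal.Quotient.eq_zero_iff_mem]
      exact Ideal.mem_map_of_mem _ ha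
    let ω : B ⟶ CommRingCat.of (C ⧸ I) :=
      CommRingCat.ofHom (RingHom.liftOfRightInverse π.hom _ (Function.rightInverse_surjInv hπ)
        (⟨(Ideal.Quotient.mk I).comp φ.hom, hle⟩ : {g : A →+* C ⧸ I // RingHom.ker π.hom ≤ RingHom.ker g}))
    have hw : φ ≫ χ = π ≫ ω := by
      apply CommRingCat.hom_ext
      ext a
      exact (RingHom.liftOfRightInverse_comp_apply π.hom _ (Function.rightInverse_surjInv hπ) ⟨_, hle⟩ a).symm
    intro c hc
    have h2 := h.inl_desc χ ω hw
    rw [← Ideal.Quotient.eq_zero_iff_mem]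
    change χ.hom c = 0
    rw [← h2, CommRingCat.hom_comp, RingHom.comp_apply, hc, map_zero]
  · rw [Ideal.map_le_iff_le_comap]
    intro a ha
    rw [Ideal.mem_comap, RingHom.mem_ker, ← RingHom.comp_apply, ← CommRingCat.hom_comp, h.w,
      CommRingCat.hom_comp, RingHom.comp_apply, ha, map_zero]

lemma ker_ideal_top {Z Y : Scheme.{u}} (i : Z ⟶ Y) [IsAffine Y] :
    i.ker.ideal ⟨⊤, isAffineOpen_top Y⟩ = RingHom.ker i.appTop.hom := by
  rw [ker_of_isAffine, IdealSheafData.ofIdealTop_ideal]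
  simp

/-- On affine schemes, comap of ideal sheaves is the extension of ideals. -/
lemma ideal_comap_top {X Y : Scheme.{u}} [IsAffine X] [IsAffine Y] (J : Y.IdealSheafData)
    (f : X ⟶ Y) :
    (J.comap f).ideal ⟨⊤, isAffineOpen_top X⟩ =
      (J.ideal ⟨⊤, isAffineOpen_top Y⟩).map f.appTop.hom := by
  have : IsAffine J.subscheme := isAffine_of_isAffineHom J.subschemeι
  have hpo := isPushout_appTop_of_isPullback (IsPullback.of_hasPullback f J.subschemeι)
  have hs : Function.Surjective J.subschemeι.appTop.hom :=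
    J.subschemeι.app_surjective _ (isAffineOpen_top Y)
  conv_rhs => rw [← J.ker_subschemeι, ker_ideal_top]
  rw [show J.comap f = (pullback.fst f J.subschemeι).ker from rfl, ker_ideal_top]
  exact ker_eq_map_of_isPushout hpo hs

/-- The comap of an ideal sheaf is given on affines by extension of ideals. -/
lemma ideal_comap {X Y : Scheme.{u}} (J : Y.IdealSheafData) (f : X ⟶ Y) (U : Y.affineOpens)
    (V : X.affineOpens) (e : V.1 ≤ f ⁻¹ᵁ U.1) :
    (J.comap f).ideal V = (J.ideal U).map (f.appLE U.1 V.1 e).hom := by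
  have : IsAffine U.1.toScheme := U.2
  have : IsAffine V.1.toScheme := V.2
  have h := ideal_comap_top (J.comap U.1.ι) (f.resLE U.1 V.1 e)
  rw [← IdealSheafData.comap_comp, Scheme.Hom.resLE_comp_ι, IdealSheafData.comap_comp,
    IdealSheafData.ideal_comap_of_isOpenImmersion (J.comap f) V.1.ι,
    IdealSheafData.ideal_comap_of_isOpenImmersion J U.1.ι,
    Scheme.Opens.ι_appIso, Scheme.Opens.ι_appIso] at h
  simp only [Iso.refl_inv] at h
  have key : ∀ (V' : X.affineOpens) (U' : Y.affineOpens) (e' : V'.1 ≤ f ⁻¹ᵁ U'.1),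
      U'.1 = U.1 → V'.1 = V.1 →
      (J.comap f).ideal V' = (J.ideal U').map (f.appLE U'.1 V'.1 e').hom →
      (J.comap f).ideal V = (J.ideal U).map (f.appLE U.1 V.1 e).hom := by
    rintro ⟨V', hV'⟩ ⟨U', hU'⟩ e' rfl rfl h'
    exact h'
  have e' : V.1.ι ''ᵁ ⊤ ≤ f ⁻¹ᵁ (U.1.ι ''ᵁ ⊤) := by simpa using e
  refine key ⟨V.1.ι ''ᵁ ⊤, (isAffineOpen_top _).image_of_isOpenImmersion V.1.ι⟩
    ⟨U.1.ι ''ᵁ ⊤, (isAffineOpen_top _).image_of_isOpenImmersion U.1.ι⟩ e'
    (Scheme.Opens.ι_image_top _) (Scheme.Opens.ι_image_top _) ?_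
  have h1 : (f.resLE U.1 V.1 e).appTop = f.appLE (U.1.ι ''ᵁ ⊤) (V.1.ι ''ᵁ ⊤) e' := by
    rw [Scheme.Hom.appTop, ← Scheme.Hom.appLE_eq_app, Scheme.Hom.resLE_appLE]
    rfl
  rw [h1] at h
  exact h

end Groth.Agent.FpqcDescent
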