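import Groth.Agent.FpqcDescent.IdealComap
import Groth.Agent.FpqcDescent.Flat
import Mathlib.AlgebraicGeometry.Noetherian
import Mathlib.Data.DFinsupp.WellFounded
import Mathlib.AlgebraicGeometry.Morphisms.UniversallyOpen

set_option autoImplicit false
set_option backward.isDefEq.respectTransparency.types false

universe u v

open CategoryTheory Limits

namespace Groth.Agent.FpqcDescent

/-- Flat ring maps covering the maximal ideals detect membership in ideals. -/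
lemma ideal_le_of_flat_family {A : Type u} [CommRing A] {ι : Type v} {B : ι → Type u}
    [∀ i, CommRing (B i)] (φ : ∀ i, A →+* B i) (hflat : ∀ i, (φ i).Flat)
    (hcov : ∀ m : Ideal A, m.IsMaximal → ∃ (i : ι) (q : Ideal (B i)), q.IsPrime ∧ q.comap (φ i) = m)
    {I J : Ideal A} (h : ∀ i, J.map (φ i) ≤ I.map (φ i)) : J ≤ I := by
  intro a ha
  by_contra hna
  let K : Ideal A := I.colon (Ideal.span {a})
  have hK : K ≠ ⊤ := fun h1 ↦ by
    refine hna ?_
    have := (Ideal.eq_top_iff_one K).mp h1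
    simpa [K, Submodule.mem_colon] using this
  obtain ⟨m, hm, hKm⟩ := Ideal.exists_le_maximal K hK
  obtain ⟨i, q, hq, hqm⟩ := hcov m hm
  let ψ := Localization.localRingHom m q (φ i) hqm.symm
  have hψ : ψ.Flat := (hflat i).localRingHom q m hqm.symm
  let _ : Algebra (Localization.AtPrime m) (Localization.AtPrime q) := ψ.toAlgebra
  have : Module.Flat (Localization.AtPrime m) (Localization.AtPrime q) := hψ
  have : IsLocalHom (algebraMap (Localization.AtPrime m) (Localization.AtPrime q)) :=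
    Localization.isLocalHom_localRingHom m q (φ i) hqm.symm
  have : Module.FaithfullyFlat (Localization.AtPrime m) (Localization.AtPrime q) :=
    Module.FaithfullyFlat.of_flat_of_isLocalHom
  have hcomp : ψ.comp (algebraMap A (Localization.AtPrime m)) =
      (algebraMap (B i) (Localization.AtPrime q)).comp (φ i) :=
    RingHom.ext fun x ↦ Localization.localRingHom_to_map m q (φ i) hqm.symm x
  have h1 : algebraMap (B i) (Localization.AtPrime q) (φ i a) ∈
      ((I.map (φ i)).map (algebraMap (B i) (Localization.AtPrime q))) :=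
    Ideal.mem_map_of_mem _ (h i (Ideal.mem_map_of_mem _ ha))
  rw [Ideal.map_map, ← RingHom.comp_apply, ← hcomp, ← Ideal.map_map, RingHom.comp_apply] at h1
  have h2 : algebraMap A (Localization.AtPrime m) a ∈ I.map (algebraMap A (Localization.AtPrime m)) := by
    have h3 := Ideal.comap_map_eq_self_of_faithfullyFlat (A := Localization.AtPrime m)
      (B := Localization.AtPrime q) (I.map (algebraMap A (Localization.AtPrime m)))
    rw [← h3]
    exact h1
  obtain ⟨s, hs, hsa⟩ := (IsLocalization.algebraMap_mem_map_algebraMap_iff m.primeCompl _ I a).mp h2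
  refine hs (hKm ?_)
  rw [Submodule.mem_colon]
  intro b hb
  obtain ⟨c, rfl⟩ := Ideal.mem_span_singleton'.mp hb
  rw [smul_eq_mul, mul_comm c, ← mul_assoc]
  exact I.mul_mem_right _ hsa

lemma isNoetherianRing_of_flat_family {A : Type u} [CommRing A] {ι : Type v} [Finite ι]
    {B : ι → Type u} [∀ i, CommRing (B i)] [∀ i, IsNoetherianRing (B i)] (φ : ∀ i, A →+* B i)
    (hflat : ∀ i, (φ i).Flat)
    (hcov : ∀ m : Ideal A, m.IsMaximal → ∃ (i : ι) (q : Ideal (B i)), q.IsPrime ∧ q.comap (φ i) = m) :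
    IsNoetherianRing A := by
  rw [isNoetherianRing_iff, isNoetherian_iff]
  have : ∀ i, WellFoundedGT (Ideal (B i)) := fun i ↦ inferInstance
  let F : Ideal A → ∀ i, Ideal (B i) := fun I i ↦ I.map (φ i)
  have hF : StrictMono F := fun I J hlt ↦ by
    refine lt_of_le_of_ne (fun i ↦ Ideal.map_mono hlt.le) fun heq ↦ hlt.ne (le_antisymm hlt.le ?_)
    exact ideal_le_of_flat_family φ hflat hcov fun i ↦ (congr_fun heq i).ge
  have h0 : WellFoundedLT (∀ i, (Ideal (B i))ᵒᵈ) := Pi.wellFoundedLT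
  have : WellFoundedGT (∀ i, Ideal (B i)) := ⟨h0.wf⟩
  exact hF.wellFoundedGT.wf

open AlgebraicGeometry

lemma exists_prime_comap_appLE {X Y : Scheme.{u}} (f : X ⟶ Y) (U : Y.affineOpens)
    (s : Set X.affineOpens) (hs : ∀ y ∈ U.1, ∃ V ∈ s, ∃ x ∈ V.1, f.base x = y)
    (hle : ∀ V ∈ s, V.1 ≤ f ⁻¹ᵁ U.1) (m : Ideal Γ(Y, U.1)) (hm : m.IsPrime) :
    ∃ (V : s) (q : Ideal Γ(X, V.1.1)), q.IsPrime ∧
      q.comap (f.appLE U.1 V.1.1 (hle V.1 V.2)).hom = m := by
  let y : U.1 := U.2.isoSpec.inv ⟨m, hm⟩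
  obtain ⟨V, hV, x, hx, hxy⟩ := hs y.1 y.2
  refine ⟨⟨V, hV⟩, (V.2.primeIdealOf ⟨x, hx⟩).asIdeal, inferInstance, ?_⟩
  have h := IsAffineOpen.comap_primeIdealOf_appLE (f := f) U.1 U.2 V.1 V.2 (hle V hV) hx
  have h2 : U.2.primeIdealOf ⟨f x, hle V hV hx⟩ = ⟨m, hm⟩ := by
    have : (⟨f x, hle V hV hx⟩ : U.1) = y := Subtype.ext hxy
    rw [this]
    simp [IsAffineOpen.primeIdealOf, y, ← Scheme.Hom.comp_apply]
  rw [h2] at h
  exact congr_arg PrimeSpectrum.asIdeal h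

lemma idealSheafData_comap_injective {X Y : Scheme.{u}} (f : X ⟶ Y) [Flat f] [Surjective f] :
    Function.Injective fun J : Y.IdealSheafData ↦ J.comap f := by
  suffices ∀ I J : Y.IdealSheafData, I.comap f = J.comap f → J ≤ I from
    fun I J h ↦ le_antisymm (this J I h.symm) (this I J h)
  intro I J h U
  let s : Set X.affineOpens := {V | V.1 ≤ f ⁻¹ᵁ U.1}
  refine ideal_le_of_flat_family (ι := s) (fun V ↦ (f.appLE U.1 V.1.1 V.2).hom)
    (fun V ↦ f.flat_appLE U.2 V.1.2 V.2)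
    (fun m hm ↦ exists_prime_comap_appLE f U s ?_ (fun V hV ↦ hV) m hm.isPrime) fun V ↦ ?_
  · intro y hy
    obtain ⟨x, rfl⟩ := f.surjective y
    obtain ⟨_, ⟨V, hV, rfl⟩, hxV, hVU⟩ := X.isBasis_affineOpens.exists_subset_of_mem_open
      (show x ∈ f ⁻¹ᵁ U.1 from hy) (f ⁻¹ᵁ U.1).isOpen
    exact ⟨⟨V, hV⟩, hVU, x, hxV, rfl⟩
  · rw [← ideal_comap J f U V.1 V.2, ← ideal_comap I f U V.1 V.2, h]

lemma isLocallyNoetherian_of_flat {X Y : Scheme.{u}} (f : X ⟶ Y) [Flat f] [IsLocallyNoetherian X]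
    (h : ∀ U : Y.affineOpens, ∃ K : Set X, K ⊆ f.base ⁻¹' U.1 ∧ IsCompact K ∧ (U.1 : Set Y) ⊆ f.base '' K) :
    IsLocallyNoetherian Y := by
  refine ⟨fun U ↦ ?_⟩
  obtain ⟨K, hKU, hK, hUK⟩ := h U
  have hb : ∀ x : K, ∃ V : X.affineOpens, x.1 ∈ V.1 ∧ V.1 ≤ f ⁻¹ᵁ U.1 := fun x ↦ by
    obtain ⟨_, ⟨V, hV, rfl⟩, hxV, hVU⟩ := X.isBasis_affineOpens.exists_subset_of_mem_open
      (show x.1 ∈ f ⁻¹ᵁ U.1 from hKU x.2) (f ⁻¹ᵁ U.1).isOpen
    exact ⟨⟨V, hV⟩, hxV, hVU⟩
  choose V hxV hVU using hb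
  obtain ⟨t, ht⟩ := hK.elim_finite_subcover (fun x ↦ ((V x).1 : Set X))
    (fun x ↦ (V x).1.isOpen) (fun x hx ↦ Set.mem_iUnion.mpr ⟨⟨x, hx⟩, hxV ⟨x, hx⟩⟩)
  let s : Set X.affineOpens := V '' t
  have hle : ∀ W ∈ s, W.1 ≤ f ⁻¹ᵁ U.1 := by rintro _ ⟨x, _, rfl⟩; exact hVU x
  have : Finite s := Set.Finite.to_subtype (t.finite_toSet.image V)
  have : ∀ W : s, IsNoetherianRing Γ(X, W.1.1) := fun W ↦
    IsLocallyNoetherian.component_noetherian W.1
  refine isNoetherianRing_of_flat_family (ι := s) (fun W ↦ (f.appLE U.1 W.1.1 (hle _ W.2)).hom)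
    (fun W ↦ f.flat_appLE U.2 W.1.2 (hle _ W.2))
    (fun m hm ↦ exists_prime_comap_appLE f U s ?_ hle m hm.isPrime)
  intro y hy
  obtain ⟨x, hx, rfl⟩ := hUK hy
  obtain ⟨j, hj, hxj⟩ := Set.mem_iUnion₂.mp (ht hx)
  exact ⟨V j, ⟨j, hj, rfl⟩, x, hxj, rfl⟩

lemma isLocallyNoetherian_of_flat_surjective_quasiCompact {X Y : Scheme.{u}} (f : X ⟶ Y) [Flat f]
    [Surjective f] [QuasiCompact f] [IsLocallyNoetherian X] : IsLocallyNoetherian Y :=
  isLocallyNoetherian_of_flat f fun U ↦ ⟨f.base ⁻¹' U.1, subset_rfl,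
    f.isCompact_preimage U.2.isCompact, (Set.image_preimage_eq _ f.surjective).ge⟩

lemma isLocallyNoetherian_of_flat_surjective_universallyOpen {X Y : Scheme.{u}} (f : X ⟶ Y) [Flat f]
    [Surjective f] [UniversallyOpen f] [IsLocallyNoetherian X] : IsLocallyNoetherian Y :=
  isLocallyNoetherian_of_flat f fun U ↦ by
    obtain ⟨V, hV, e⟩ := f.isOpenMap.exists_opens_image_eq_of_prespectralSpace f.continuous
      (fun y _ ↦ f.surjective y) U.1.isOpen U.2.isCompact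
    exact ⟨V, fun x hx ↦ show f.base x ∈ (U.1 : Set Y) from e ▸ ⟨x, hx, rfl⟩, hV, e.ge⟩

end Groth.Agent.FpqcDescent
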