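import Groth.Agent.FpqcDescent.Basic
import Mathlib.AlgebraicGeometry.Morphisms.QuasiFinite

set_option autoImplicit false
set_option backward.isDefEq.respectTransparency.types false

universe u

open CategoryTheory Limits MorphismProperty TopologicalSpace

namespace Groth.Agent.FpqcDescent

open AlgebraicGeometry

instance respectsIso_finiteFibres :
    RespectsIso (topologically (fun f => ∀ y, (f ⁻¹' {y}).Finite) : MorphismProperty Scheme.{u}) := by
  apply topologically_respectsIso
  · intro α β _ _ e y
    exact (Set.finite_singleton y).preimage e.injective.injOn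
  · intro α β γ _ _ _ f g hf hg z
    exact (hg z).preimage' (fun y _ ↦ hf y)

/-- The fibres of a morphism are the images of fibres after surjective base change. -/
lemma exists_fibre_eq_image {X Y Z : Scheme.{u}} (f : X ⟶ Z) (g : Y ⟶ Z) [Surjective f] (z : Z) :
    ∃ x : X, g.base ⁻¹' {z} = (pullback.snd f g).base '' ((pullback.fst f g).base ⁻¹' {x}) := by
  obtain ⟨x, rfl⟩ := f.surjective z
  refine ⟨x, Set.Subset.antisymm (fun y hy ↦ ?_) ?_⟩
  · obtain ⟨p, h1, h2⟩ := Scheme.Pullback.exists_preimage_pullback x y (f := f) (g := g) hy.symm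
    exact ⟨p, h1, h2⟩
  · rintro _ ⟨p, (hp : pullback.fst f g p = x), rfl⟩
    simp only [Set.mem_preimage, Set.mem_singleton_iff, ← hp, ← Scheme.Hom.comp_apply,
      pullback.condition]

instance descendsAlong_finiteFibres :
    DescendsAlong (topologically (fun f => ∀ y, (f ⁻¹' {y}).Finite)) (@Surjective : MorphismProperty Scheme.{u}) := by
  apply DescendsAlong.mk'
  intro X Y Z f g _ hf h z
  obtain ⟨x, hx⟩ := exists_fibre_eq_image f g z
  rw [hx]
  exact (h x).image _

instance respectsIso_injective :
    RespectsIso (topologically (fun f => Function.Injective f) : MorphismProperty Scheme.{u}) := by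
  apply topologically_respectsIso
  · intro α β _ _ e
    exact e.injective
  · intro α β γ _ _ _ f g hf hg
    exact hg.comp hf

instance descendsAlong_injective :
    DescendsAlong (topologically (fun f => Function.Injective f)) (@Surjective : MorphismProperty Scheme.{u}) := by
  apply DescendsAlong.mk'
  intro X Y Z f g _ hf h a b hab
  obtain ⟨x, hx⟩ := f.surjective (g a)
  obtain ⟨p, h1, h2⟩ := Scheme.Pullback.exists_preimage_pullback x a (f := f) (g := g) hx
  obtain ⟨q, h3, h4⟩ := Scheme.Pullback.exists_preimage_pullback x b (f := f) (g := g) (hx.trans hab)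
  rw [← h2, ← h4, h (h1.trans h3.symm)]

instance descendsAlong_locallyQuasiFinite_fpqc :
    DescendsAlong (@LocallyQuasiFinite ⊓ @LocallyOfFiniteType : MorphismProperty Scheme.{u})
      (@Surjective ⊓ @Flat ⊓ @QuasiCompact : MorphismProperty Scheme.{u}) := by
  refine IsZariskiLocalAtTarget.descendsAlong_inf_quasiCompact _ _ isZariskiCover_le ?_
  intro R S Y φ g hφ h
  have : Surjective (Spec.map φ) := hφ.1
  have : LocallyQuasiFinite (pullback.fst (Spec.map φ) g) := h.1
  have hg : LocallyOfFiniteType g :=
    of_pullback_fst_of_descendsAlong (P := @LocallyOfFiniteType) (f := Spec.map φ)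
      (Q := @Surjective ⊓ @Flat ⊓ @QuasiCompact) ⟨hφ, inferInstance⟩ h.2
  refine ⟨IsZariskiLocalAtSource.of_openCover Y.affineCover fun i ↦ ?_, hg⟩
  have : LocallyQuasiFinite (pullback.fst (Spec.map φ) (Y.affineCover.f i ≫ g)) := by
    have heq : pullback.fst (Spec.map φ) (Y.affineCover.f i ≫ g) =
        pullback.map _ _ _ _ (𝟙 _) (Y.affineCover.f i) (𝟙 _) (by simp) (by simp) ≫
          pullback.fst (Spec.map φ) g := (pullback.lift_fst _ _ _).symm
    rw [heq]
    infer_instance
  refine LocallyQuasiFinite.of_finite_preimage_singleton _ fun z ↦ ?_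
  obtain ⟨x, hx⟩ := exists_fibre_eq_image (Spec.map φ) (Y.affineCover.f i ≫ g) z
  rw [hx]
  exact ((pullback.fst (Spec.map φ) (Y.affineCover.f i ≫ g)).finite_preimage_singleton x).image _

end Groth.Agent.FpqcDescent
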