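import Groth.Agent.FpqcDescent.Basic
import Groth.Agent.FpqcDescent.Specialization
import Mathlib.AlgebraicGeometry.Morphisms.Immersion
import Mathlib.AlgebraicGeometry.Morphisms.UniversallyOpen
import Mathlib.AlgebraicGeometry.Morphisms.FinitePresentation
import Mathlib.AlgebraicGeometry.Morphisms.FlatDescent

set_option autoImplicit false
set_option backward.isDefEq.respectTransparency.types false

universe u

open CategoryTheory Limits MorphismProperty TopologicalSpace Topology

namespace Groth.Agent.FpqcDescent

open AlgebraicGeometry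

variable {X S S' : Scheme.{u}}

lemma preimage_image_eq_image_preimage (g : S' ⟶ S) (f : X ⟶ S) (C : Set X) :
    g.base ⁻¹' (f.base '' C) =
      (pullback.fst g f).base '' ((pullback.snd g f).base ⁻¹' C) := by
  refine Set.Subset.antisymm (fun s ⟨x, hx, h⟩ ↦ ?_) ?_
  · obtain ⟨p, h1, h2⟩ := Scheme.Pullback.exists_preimage_pullback s x (f := g) (g := f) h.symm
    exact ⟨p, by simpa [h2] using hx, h1⟩
  · rintro _ ⟨p, hp, rfl⟩
    refine ⟨(pullback.snd g f).base p, hp, ?_⟩
    simp only [← Scheme.Hom.comp_apply, pullback.condition]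

/-- The closure of the image of a closed set by a quasi-compact morphism commutes with flat
preimages. -/
lemma preimage_closure_image_subset (g : S' ⟶ S) [Flat g] (f : X ⟶ S) [QuasiCompact f]
    (C : Set X) (hC : IsClosed C) :
    g.base ⁻¹' closure (f.base '' C) ⊆ closure (g.base ⁻¹' (f.base '' C)) := by
  intro s hs
  let I := Scheme.IdealSheafData.vanishingIdeal (X := X) ⟨C, hC⟩
  have hI : Set.range I.subschemeι.base = C := by
    rw [Scheme.IdealSheafData.range_subschemeι]
    exact Scheme.IdealSheafData.coe_support_vanishingIdeal ..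
  have hr : Set.range (I.subschemeι ≫ f).base = f.base '' C := by
    rw [Scheme.Hom.comp_base, TopCat.coe_comp, Set.range_comp, hI]
  obtain ⟨z, hz⟩ := exists_specializes_of_mem_closure_range (I.subschemeι ≫ f) (x := g.base s)
    (by rw [hr]; exact hs)
  obtain ⟨t, ht, hgt⟩ := Flat.generalizingMap g hz
  refine ht.mem_closed isClosed_closure (subset_closure ?_)
  change g.base t ∈ f.base '' C
  rw [hgt, ← hr]
  exact ⟨z, rfl⟩

/-- Being a topological embedding descends along a surjective base change `g`, provided closures of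
images commute with preimages by `g`. -/
lemma isEmbedding_of_pullback (g : S' ⟶ S) [Surjective g] (f : X ⟶ S)
    (hg : ∀ C : Set X, IsClosed C →
      g.base ⁻¹' closure (f.base '' C) ⊆ closure (g.base ⁻¹' (f.base '' C)))
    (h : IsEmbedding (pullback.fst g f).base) : IsEmbedding f.base := by
  refine ⟨⟨TopologicalSpace.ext_isClosed fun C ↦ ?_⟩, fun a b hab ↦ ?_⟩
  · rw [isClosed_induced_iff]
    refine ⟨fun hC ↦ ⟨closure (f.base '' C), isClosed_closure, ?_⟩,
      fun ⟨T, hT, hTC⟩ ↦ hTC ▸ hT.preimage f.continuous⟩
    refine Set.Subset.antisymm (fun x hx ↦ ?_) (fun x hx ↦ subset_closure ⟨x, hx, rfl⟩)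
    obtain ⟨p, rfl⟩ := (pullback.snd g f).surjective x
    have hp : (pullback.fst g f).base p ∈ g.base ⁻¹' closure (f.base '' C) := by
      change g.base ((pullback.fst g f).base p) ∈ closure (f.base '' C)
      rw [← Scheme.Hom.comp_apply, pullback.condition]
      exact hx
    have hp' := hg C hC hp
    rw [preimage_image_eq_image_preimage] at hp'
    have : p ∈ closure ((pullback.snd g f).base ⁻¹' C) := by
      rw [h.closure_eq_preimage_closure_image]
      exact hp'
    rwa [(hC.preimage (pullback.snd g f).continuous).closure_eq] at this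
  · obtain ⟨s, hs⟩ := g.surjective (f.base a)
    obtain ⟨p, h1, h2⟩ := Scheme.Pullback.exists_preimage_pullback s a (f := g) (g := f) hs
    obtain ⟨q, h3, h4⟩ := Scheme.Pullback.exists_preimage_pullback s b (f := g) (g := f)
      (hs.trans hab)
    rw [← h2, ← h4, h.injective (h1.trans h3.symm)]

/-- A set whose preimage by a quotient map is locally closed is locally closed, provided closures
commute with taking the preimage. -/
lemma isLocallyClosed_of_preimage {α β : Type*} [TopologicalSpace α] [TopologicalSpace β]
    (g : α → β) (hg : IsQuotientMap g) (R : Set β) (hR : g ⁻¹' closure R ⊆ closure (g ⁻¹' R))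
    (h : IsLocallyClosed (g ⁻¹' R)) : IsLocallyClosed R := by
  rw [isLocallyClosed_iff_isOpen_coborder] at h ⊢
  rw [← hg.isOpen_preimage, coborder_eq_union_closure_compl, Set.preimage_union,
    Set.preimage_compl, Set.Subset.antisymm hR (hg.continuous.closure_preimage_subset R),
    ← coborder_eq_union_closure_compl]
  exact h

/-- Common part of the fpqc and fppf descent of immersions. -/
lemma isImmersion_of_pullback (g : S' ⟶ S) [Surjective g] (f : X ⟶ S)
    (hq : IsQuotientMap g.base)
    (hg : ∀ C : Set X, IsClosed C →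
      g.base ⁻¹' closure (f.base '' C) ⊆ closure (g.base ⁻¹' (f.base '' C)))
    (hcl : ∀ {U : S.Opens} (j : X ⟶ U.toScheme),
      IsClosedImmersion (pullback.fst (pullback.snd g U.ι) j) → IsClosedImmersion j)
    (h : IsImmersion (pullback.fst g f)) : IsImmersion f := by
  have hR : IsLocallyClosed (Set.range f.base) := by
    refine isLocallyClosed_of_preimage _ hq _ ?_ ?_
    · simpa using hg Set.univ isClosed_univ
    · rw [← Scheme.Pullback.range_fst]
      exact (pullback.fst g f).isLocallyClosed_range
  let U : S.Opens := ⟨coborder (Set.range f.base), hR.isOpen_coborder⟩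
  let j : X ⟶ U.toScheme := IsOpenImmersion.lift U.ι f
    (by rw [Scheme.Opens.range_ι]; exact subset_coborder)
  have hj : j ≫ U.ι = f := IsOpenImmersion.lift_fac _ _ _
  have hjclosed : IsClosed (Set.range j.base) := by
    have : Set.range j.base = U.ι.base ⁻¹' (Set.range f.base) := by
      rw [← hj, Scheme.Hom.comp_base, TopCat.coe_comp, Set.range_comp,
        Set.preimage_image_eq _ U.ι.isOpenEmbedding.injective]
    rw [this]
    exact isClosed_preimage_val_coborder
  have : IsClosedImmersion j := by
    refine hcl j ?_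
    have sq := (IsPullback.of_hasPullback (pullback.snd g U.ι) j).flip.paste_vert
      (IsPullback.of_hasPullback g U.ι).flip
    rw [hj] at sq
    have : IsImmersion (pullback.fst (pullback.snd g U.ι) j ≫ pullback.fst g U.ι) := by
      rw [← sq.flip.isoPullback_hom_fst]
      infer_instance
    have := IsImmersion.of_comp (pullback.fst (pullback.snd g U.ι) j) (pullback.fst g U.ι)
    refine .of_isPreimmersion _ ?_
    rw [Scheme.Pullback.range_fst]
    exact hjclosed.preimage (pullback.snd g U.ι).continuous
  rw [← hj]
  infer_instance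

instance descendsAlong_qcEmbedding_fpqc :
    DescendsAlong
      (topologically (fun f => Topology.IsEmbedding f) ⊓ @QuasiCompact : MorphismProperty Scheme.{u})
      (@Surjective ⊓ @Flat ⊓ @QuasiCompact : MorphismProperty Scheme.{u}) := by
  apply DescendsAlong.mk'
  intro X Y Z g f _ hg h
  have := hg.1.1
  have := hg.1.2
  have : QuasiCompact f := of_pullback_fst_of_descendsAlong (P := @QuasiCompact) (f := g)
    (Q := @Surjective ⊓ @Flat ⊓ @QuasiCompact) hg h.2
  exact ⟨isEmbedding_of_pullback g f (preimage_closure_image_subset g f) h.1, ‹_›⟩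

instance descendsAlong_qcImmersion_fpqc :
    DescendsAlong (@IsImmersion ⊓ @QuasiCompact : MorphismProperty Scheme.{u})
      (@Surjective ⊓ @Flat ⊓ @QuasiCompact : MorphismProperty Scheme.{u}) := by
  apply DescendsAlong.mk'
  intro X Y Z g f _ hg h
  have := hg.1.1
  have := hg.1.2
  have := hg.2
  have : QuasiCompact f := of_pullback_fst_of_descendsAlong (P := @QuasiCompact) (f := g)
    (Q := @Surjective ⊓ @Flat ⊓ @QuasiCompact) hg h.2
  exact ⟨isImmersion_of_pullback g f (Flat.isQuotientMap_of_surjective g)
    (preimage_closure_image_subset g f) (fun {U} j hj ↦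
      of_pullback_fst_of_descendsAlong (P := @IsClosedImmersion) (f := pullback.snd g U.ι)
        (Q := @Surjective ⊓ @Flat ⊓ @QuasiCompact)
        ((@Surjective ⊓ @Flat ⊓ @QuasiCompact : MorphismProperty Scheme).pullback_snd _ _ hg) hj)
    h.1, ‹_›⟩

instance respectsIso_isHomeomorph :
    RespectsIso (topologically (fun f => IsHomeomorph f) : MorphismProperty Scheme.{u}) := by
  apply topologically_respectsIso
  · intro α β _ _ e
    exact e.isHomeomorph
  · intro α β γ _ _ _ f g hf hg
    exact hg.comp hf

instance descendsAlong_isHomeomorph_fpqc :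
    DescendsAlong (topologically (fun f => IsHomeomorph f) : MorphismProperty Scheme.{u})
      (@Surjective ⊓ @Flat ⊓ @QuasiCompact : MorphismProperty Scheme.{u}) := by
  apply DescendsAlong.mk'
  intro X Y Z g f _ hg h
  have := hg.1.1
  have := hg.1.2
  have h' : IsHomeomorph (pullback.fst g f).base := h
  have hqc : QuasiCompact (pullback.fst g f) :=
    (quasiCompact_iff _).mpr fun U _ hU ↦ h'.isClosedEmbedding.isCompact_preimage hU
  have : QuasiCompact f := of_pullback_fst_of_descendsAlong (P := @QuasiCompact) (f := g)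
    (Q := @Surjective ⊓ @Flat ⊓ @QuasiCompact) hg hqc
  have he := isEmbedding_of_pullback g f (preimage_closure_image_subset g f) h'.isEmbedding
  have : Surjective (pullback.fst g f) := ⟨h'.surjective⟩
  have : Surjective f := of_pullback_fst_of_descendsAlong (P := @Surjective) (f := g)
    (Q := @Surjective ⊓ @Flat ⊓ @QuasiCompact) hg ‹_›
  exact isHomeomorph_iff_isEmbedding_surjective.mpr ⟨he, f.surjective⟩

/-- A property local at the target, stable under base change, that descends along fpqc morphisms
also descends along fppf morphisms. -/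
lemma descendsAlong_fppf_of_fpqc (P : MorphismProperty Scheme.{u}) [IsZariskiLocalAtTarget P]
    [P.IsStableUnderBaseChange]
    [P.DescendsAlong (@Surjective ⊓ @Flat ⊓ @QuasiCompact : MorphismProperty Scheme.{u})] :
    P.DescendsAlong
      (@Surjective ⊓ @Flat ⊓ @LocallyOfFinitePresentation : MorphismProperty Scheme.{u}) := by
  refine IsZariskiLocalAtTarget.descendsAlong _ _ fun {R X Y} f g hf h ↦ ?_
  have := hf.1.1
  have := hf.1.2
  have := hf.2
  have hcov : ∀ s : Spec R, ∃ V : X.affineOpens, s ∈ f.base '' (V.1 : Set X) := fun s ↦ by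
    obtain ⟨x, rfl⟩ := f.surjective s
    obtain ⟨_, ⟨V, hV, rfl⟩, hx, -⟩ :=
      X.isBasis_affineOpens.exists_subset_of_mem_open (Set.mem_univ x) isOpen_univ
    exact ⟨⟨V, hV⟩, x, hx, rfl⟩
  choose V hV using hcov
  obtain ⟨t, ht⟩ := isCompact_univ.elim_finite_subcover (fun s ↦ f.base '' ((V s).1 : Set X))
    (fun s ↦ f.isOpenMap _ (V s).1.isOpen) (fun s _ ↦ Set.mem_iUnion.mpr ⟨s, hV s⟩)
  let W : X.Opens := ⨆ s ∈ t, (V s).1
  have hW : IsCompact (W : Set X) := by
    simp only [W, Opens.coe_iSup]
    exact t.finite_toSet.isCompact_biUnion fun s _ ↦ (V s).2.isCompact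
  have : CompactSpace W.toScheme := isCompact_iff_compactSpace.mp hW
  have : QuasiCompact (W.ι ≫ f) := (quasiCompact_iff_compactSpace _).mpr ‹_›
  have : Surjective (W.ι ≫ f) := by
    refine ⟨fun s ↦ ?_⟩
    obtain ⟨i, hi, x, hx, hxs⟩ := Set.mem_iUnion₂.mp (ht (Set.mem_univ s))
    have hxW : x ∈ W := by
      simp only [W, Opens.mem_iSup]
      exact ⟨i, hi, hx⟩
    exact ⟨⟨x, hxW⟩, hxs⟩
  refine of_pullback_fst_of_descendsAlong (P := P) (f := W.ι ≫ f)
    (Q := @Surjective ⊓ @Flat ⊓ @QuasiCompact) ⟨⟨‹_›, inferInstance⟩, ‹_›⟩ ?_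
  rw [← pullbackRightPullbackFstIso_inv_fst f g W.ι, P.cancel_left_of_respectsIso]
  exact P.pullback_fst _ _ h

instance descendsAlong_isImmersion_fppf :
    DescendsAlong (@IsImmersion : MorphismProperty Scheme.{u})
      (@Surjective ⊓ @Flat ⊓ @LocallyOfFinitePresentation : MorphismProperty Scheme.{u}) := by
  have := descendsAlong_fppf_of_fpqc (@IsClosedImmersion : MorphismProperty Scheme.{u})
  apply DescendsAlong.mk'
  intro X Y Z g f _ hg h
  have := hg.1.1
  have := hg.1.2
  have := hg.2
  exact isImmersion_of_pullback g f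
    (g.isOpenMap.isQuotientMap g.continuous g.surjective)
    (fun C _ ↦ g.isOpenMap.preimage_closure_subset_closure_preimage)
    (fun {U} j hj ↦
      of_pullback_fst_of_descendsAlong (P := @IsClosedImmersion) (f := pullback.snd g U.ι)
        (Q := @Surjective ⊓ @Flat ⊓ @LocallyOfFinitePresentation)
        ((@Surjective ⊓ @Flat ⊓ @LocallyOfFinitePresentation :
          MorphismProperty Scheme).pullback_snd _ _ hg) hj) h

/-- If `P` descends along a base change stable property, so does `universally P`. -/
lemma descendsAlong_universally (P Q : MorphismProperty Scheme.{u}) [Q.IsStableUnderBaseChange]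
    [P.RespectsIso] [P.DescendsAlong Q] : P.universally.DescendsAlong Q := by
  apply DescendsAlong.mk'
  intro X Y Z g f _ hg h A B iA iB f' sq
  refine of_pullback_fst_of_descendsAlong (P := P) (f := pullback.snd g iB) (Q := Q)
    (Q.pullback_snd _ _ hg) ?_
  refine h (pullback.lift (pullback.fst (pullback.snd g iB) f' ≫ pullback.fst g iB)
      (pullback.snd (pullback.snd g iB) f' ≫ iA) ?_) (pullback.fst g iB) _ ?_
  · rw [Category.assoc, pullback.condition, ← Category.assoc, pullback.condition, Category.assoc,
      Category.assoc, sq.w]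
  · refine (IsPullback.of_right ?_ ?_ (IsPullback.of_hasPullback g f).flip).flip
    · rw [pullback.lift_snd, pullback.condition]
      exact (IsPullback.of_hasPullback (pullback.snd g iB) f').flip.paste_horiz sq.flip
    · exact pullback.lift_fst _ _ _

end Groth.Agent.FpqcDescent
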