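import Groth.Prelude.Def_Mor2
import Groth.Agent.FpqcDescent.Basic
import Mathlib.AlgebraicGeometry.QuasiAffine
import Mathlib.AlgebraicGeometry.Morphisms.FlatDescent

set_option autoImplicit false
set_option backward.isDefEq.respectTransparency.types false

universe u

open CategoryTheory Limits MorphismProperty TopologicalSpace

namespace Groth.Agent.FpqcDescent

open AlgebraicGeometry

/-- A quasi-compact scheme covered by quasi-affine basic opens of global sections is quasi-affine. -/
lemma isQuasiAffine_of_basicOpen_cover (P : Scheme.{u}) [CompactSpace P]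
    (H : ∀ x : P, ∃ e : Γ(P, ⊤), x ∈ P.basicOpen e ∧ (P.basicOpen e).toScheme.IsQuasiAffine) :
    P.IsQuasiAffine := by
  choose e he hq using H
  have : QuasiSeparatedSpace P := by
    refine .of_isOpenCover (U := (P.basicOpen <| e ·))
      (eq_top_iff.mpr fun _ _ ↦ Opens.mem_iSup.mpr ⟨_, he _⟩)
      (fun _ ↦ isRetrocompact_basicOpen _) (fun x ↦ ?_)
    have := hq x
    exact isQuasiSeparated_iff_quasiSeparatedSpace _ (P.basicOpen (e x)).isOpen |>.mpr
      ((quasiSeparated_iff_quasiSeparatedSpace (terminal.from (P.basicOpen (e x)).toScheme)).mp inferInstance)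
  refine .of_forall_exists_mem_basicOpen _ fun x ↦ ?_
  let W := P.basicOpen (e x)
  have := hq x
  obtain ⟨_, ⟨_, ⟨r, hr, rfl⟩, rfl⟩, hxr, -⟩ := (Scheme.IsQuasiAffine.isBasis_basicOpen
    W.toScheme).exists_subset_of_mem_open (Set.mem_univ ⟨x, he x⟩) isOpen_univ
  have hloc := isLocalization_basicOpen_of_qcqs (U := (⊤ : P.Opens)) isCompact_univ
    isQuasiSeparated_univ (e x)
  obtain ⟨⟨a, ⟨_, n, rfl⟩⟩, ha⟩ := IsLocalization.surj (Submonoid.powers (e x)) (W.topIso.hom r)
  have hb : P.basicOpen (a * e x) = W.ι ''ᵁ W.toScheme.basicOpen r := by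
    have hunit : IsUnit (algebraMap Γ(P, ⊤) Γ(P, W) (e x ^ n)) := by
      rw [map_pow]; exact .pow _ (RingedSpace.isUnit_res_basicOpen _ (e x))
    have h1 : P.basicOpen (W.topIso.hom r) = W.ι ''ᵁ W.toScheme.basicOpen r := by
      rw [Scheme.image_basicOpen]
      simp [Scheme.Opens.topIso]
      exact P.basicOpen_res_eq _ _
    have h2 : P.basicOpen (algebraMap Γ(P, ⊤) Γ(P, W) a) = W ⊓ P.basicOpen a :=
      P.basicOpen_res a _
    have h3 := congrArg P.basicOpen ha.symm
    rw [h2, Scheme.basicOpen_mul, Scheme.basicOpen_of_isUnit _ hunit] at h3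
    rw [Scheme.basicOpen_mul, inf_comm, h3, h1]
    exact inf_eq_left.mpr (h1 ▸ P.basicOpen_le _)
  refine ⟨a * e x, ?_, ?_⟩
  · rw [hb]
    exact hr.image_of_isOpenImmersion W.ι
  · rw [hb]
    exact ⟨⟨x, he x⟩, hxr, rfl⟩

/-- Quasi-affineness over an affine base descends along faithfully flat base change. -/
lemma isQuasiAffine_of_pullback {R S : CommRingCat.{u}} (φ : R ⟶ S) [Flat (Spec.map φ)]
    [Surjective (Spec.map φ)] {X : Scheme.{u}} (g : X ⟶ Spec R) [QuasiCompact g]
    [(pullback (Spec.map φ) g).IsQuasiAffine] : X.IsQuasiAffine := by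
  have : CompactSpace X := QuasiCompact.compactSpace_of_compactSpace g
  have hfst : QuasiSeparated (pullback.fst (Spec.map φ) g) :=
    (quasiSeparated_iff_quasiSeparatedSpace _).mpr inferInstance
  have : QuasiSeparated g := of_pullback_fst_of_descendsAlong (P := @QuasiSeparated)
    (f := Spec.map φ) (Q := @Surjective ⊓ @Flat ⊓ @QuasiCompact)
    ⟨⟨inferInstance, inferInstance⟩, inferInstance⟩ hfst
  have : QuasiSeparatedSpace X := (quasiSeparated_iff_quasiSeparatedSpace g).mp ‹_›
  obtain ⟨q, hq⟩ : ∃ q : Spec Γ(X, ⊤) ⟶ Spec R, X.toSpecΓ ≫ q = g :=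
    ⟨Spec.map g.appTop ≫ (Spec R).isoSpec.inv, by
      rw [← Scheme.toSpecΓ_naturality_assoc, Scheme.toSpecΓ_isoSpec_inv, Category.comp_id]⟩
  subst hq
  let r := X.toSpecΓ
  let π := pullback.snd (Spec.map φ) q
  let P := pullback (Spec.map φ) (r ≫ q)
  let r' : P ⟶ pullback (Spec.map φ) q :=
    pullback.lift (pullback.fst _ _) (pullback.snd _ _ ≫ r)
      (by rw [Category.assoc, pullback.condition])
  have sq : IsPullback (pullback.snd (Spec.map φ) (r ≫ q)) r' r π := by
    refine IsPullback.of_bot ?_ (pullback.lift_snd _ _ _).symm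
      (IsPullback.of_hasPullback (Spec.map φ) q).flip
    rw [pullback.lift_fst]
    exact (IsPullback.of_hasPullback (Spec.map φ) (r ≫ q)).flip
  have hπ : (@Surjective ⊓ @Flat ⊓ @QuasiCompact : MorphismProperty Scheme.{u}) π :=
    MorphismProperty.pullback_snd _ _ ⟨⟨inferInstance, inferInstance⟩, inferInstance⟩
  have := hπ.1.2
  have hiso : IsIso r'.appTop := by
    have h := isIso_pushoutSection_of_isQuasiSeparated_of_flat_right sq (US := ⊤) (UT := ⊤)
      (UX := ⊤) (UY := ⊤) le_top le_top (by simp) (isAffineOpen_top _) (isAffineOpen_top _)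
      isCompact_univ isQuasiSeparated_univ
    rw [isIso_pushoutSection_iff] at h
    have hr : IsIso (r.appLE ⊤ ⊤ le_top) := by
      have : r.appLE ⊤ ⊤ le_top = r.appTop := by simp [Scheme.Hom.appLE]
      rw [this]
      simp only [r, Scheme.toSpecΓ_appTop]
      infer_instance
    have := h.isIso_inr_of_isIso hr
    have h' : r'.appLE ⊤ ⊤ le_top = r'.appTop := by simp [Scheme.Hom.appLE]
    rwa [h'] at this
  have hr' : IsOpenImmersion r' := by
    have h : r' = P.toSpecΓ ≫ Spec.map r'.appTop ≫ (pullback (Spec.map φ) q).isoSpec.inv := by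
      rw [← Scheme.toSpecΓ_naturality_assoc, Scheme.toSpecΓ_isoSpec_inv, Category.comp_id]
    rw [h]
    infer_instance
  have hr0 : IsOpenImmersion r :=
    of_isPullback_of_descendsAlong (P := @IsOpenImmersion)
      (Q := @Surjective ⊓ @Flat ⊓ @QuasiCompact) sq.flip hπ hr'
  have : IsImmersion X.toSpecΓ := by
    have : IsOpenImmersion X.toSpecΓ := hr0
    infer_instance
  exact {}

lemma isQuasiAffine_of_iso {X Y : Scheme.{u}} (e : X ⟶ Y) [IsIso e] [Y.IsQuasiAffine] :
    X.IsQuasiAffine :=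
  .of_isAffineHom e

instance descendsAlong_isQuasiAffine_fpqc :
    DescendsAlong (fun _ _ f => Mor2.IsQuasiAffine f : MorphismProperty Scheme.{u})
      (@Surjective ⊓ @Flat ⊓ @QuasiCompact : MorphismProperty Scheme.{u}) where
  of_isPullback {A X Y Z fst snd f g} sq hf h := by
    have := hf.1.1
    have := hf.1.2
    have := hf.2
    have hqc : QuasiCompact g := of_isPullback_of_descendsAlong (P := @QuasiCompact)
      (Q := @Surjective ⊓ @Flat ⊓ @QuasiCompact) sq hf h.1
    refine ⟨hqc, fun V hV ↦ ?_⟩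
    have : IsAffine V.toScheme := hV
    have : CompactSpace (f ⁻¹ᵁ V).toScheme :=
      isCompact_iff_compactSpace.mp (f.isCompact_preimage hV.isCompact)
    obtain ⟨T, p, hps, hpl, hT⟩ :=
      (f ⁻¹ᵁ V).toScheme.exists_hom_isAffine_of_isZariskiLocalAtSource @IsLocalIso
    let h₀ : T ⟶ V.toScheme := p ≫ f ∣_ V
    let φ := (T.isoSpec.inv ≫ h₀ ≫ V.toScheme.isoSpec.hom)
    obtain ⟨ψ, hψ⟩ := Spec.map_surjective φ
    let gV := g ∣_ V ≫ V.toScheme.isoSpec.hom
    have : QuasiCompact gV := inferInstance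
    have : Flat p := IsLocalIso.le_of_isZariskiLocalAtSource (@Flat) _ _ _ hpl
    have : Flat (f ∣_ V) := IsZariskiLocalAtTarget.restrict ‹_› V
    have : Surjective (f ∣_ V) := IsZariskiLocalAtTarget.restrict ‹_› V
    have : Flat (Spec.map ψ) := by
      rw [hψ]
      exact inferInstanceAs (Flat (T.isoSpec.inv ≫ (p ≫ f ∣_ V) ≫ V.toScheme.isoSpec.hom))
    have : Surjective (Spec.map ψ) := by
      rw [hψ]
      exact inferInstanceAs (Surjective (T.isoSpec.inv ≫ (p ≫ f ∣_ V) ≫ V.toScheme.isoSpec.hom))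
    let W := pullback (p ≫ (f ⁻¹ᵁ V).ι) fst
    have sqW := (IsPullback.of_hasPullback (p ≫ (f ⁻¹ᵁ V).ι) fst).flip.paste_horiz sq.flip
    -- `W` is quasi-affine
    have : CompactSpace W := by
      have := h.1
      exact QuasiCompact.compactSpace_of_compactSpace (pullback.fst (p ≫ (f ⁻¹ᵁ V).ι) fst)
    have hW : W.IsQuasiAffine := by
      refine isQuasiAffine_of_basicOpen_cover W fun w ↦ ?_
      let m := pullback.fst (p ≫ (f ⁻¹ᵁ V).ι) fst
      let j := p ≫ (f ⁻¹ᵁ V).ι
      have : IsLocalIso j := MorphismProperty.comp_mem @IsLocalIso _ _ hpl ⟨fun z ↦ ⟨⊤, trivial, inferInstance⟩⟩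
      obtain ⟨O, hwO, hO⟩ := IsLocalIso.exists_isOpenImmersion (f := j) (m w)
      obtain ⟨t, htO, hwt⟩ := (isAffineOpen_top T).exists_basicOpen_le (V := O) ⟨m w, hwO⟩ trivial
      refine ⟨m.appTop t, ?_, ?_⟩
      · rw [← Scheme.preimage_basicOpen_top]
        exact hwt
      let D := T.basicOpen t
      have hD : IsAffineOpen D := (isAffineOpen_top T).basicOpen t
      have : IsOpenImmersion (D.ι ≫ j) := by
        rw [← T.homOfLE_ι htO, Category.assoc]
        infer_instance
      have : IsAffine D.toScheme := hD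
      have hA : IsAffineOpen (D.ι ≫ j).opensRange := isAffineOpen_opensRange _
      have := h.2 _ hA
      rw [← Scheme.preimage_basicOpen_top]
      let e := (pullbackRestrictIsoRestrict m D).symm ≪≫ pullbackSymmetry _ _ ≪≫
        pullbackRightPullbackFstIso j fst D.ι
      let e2 : pullback (D.ι ≫ j) fst ≅ (fst ⁻¹ᵁ (D.ι ≫ j).opensRange).toScheme :=
        pullback.congrHom (IsOpenImmersion.isoOfRangeEq_hom_fac (D.ι ≫ j)
          (D.ι ≫ j).opensRange.ι (by simp)).symm rfl ≪≫
        asIso (pullback.map _ _ ((D.ι ≫ j).opensRange.ι) fst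
          (IsOpenImmersion.isoOfRangeEq (D.ι ≫ j) (D.ι ≫ j).opensRange.ι (by simp)).hom (𝟙 _)
          (𝟙 _) (by simp) (by simp)) ≪≫
        pullbackSymmetry _ _ ≪≫ pullbackRestrictIsoRestrict fst _
      exact isQuasiAffine_of_iso (e ≪≫ e2).hom
    -- transport to the base change of `g ∣_ V`
    have sqg : IsPullback (g ⁻¹ᵁ V).ι (g ∣_ V) g V.ι := (isPullback_morphismRestrict g V).flip
    have hrange : Set.range (pullback.snd (p ≫ (f ⁻¹ᵁ V).ι) fst ≫ snd).base ⊆
        Set.range (g ⁻¹ᵁ V).ι.base := by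
      rw [Scheme.Opens.range_ι]
      rintro _ ⟨w, rfl⟩
      change g ((pullback.snd (p ≫ (f ⁻¹ᵁ V).ι) fst ≫ snd) w) ∈ V
      rw [← Scheme.Hom.comp_apply, Category.assoc, ← sq.w, ← Category.assoc, ← pullback.condition]
      exact (p ((pullback.fst (p ≫ (f ⁻¹ᵁ V).ι) fst) w)).2
    let l := IsOpenImmersion.lift (g ⁻¹ᵁ V).ι _ hrange
    have key : IsPullback l (pullback.fst (p ≫ (f ⁻¹ᵁ V).ι) fst) (g ∣_ V) h₀ := by
      refine IsPullback.of_right ?_ ?_ sqg
      · rw [IsOpenImmersion.lift_fac]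
        convert sqW using 1
        simp [h₀]
      · rw [← cancel_mono V.ι]
        simp only [l, Category.assoc, morphismRestrict_ι, IsOpenImmersion.lift_fac_assoc]
        rw [sq.w.symm]
        simp only [h₀, Category.assoc, morphismRestrict_ι]
        rw [← pullback.condition_assoc]
        simp
    have sq' : IsPullback (pullback.fst (p ≫ (f ⁻¹ᵁ V).ι) fst ≫ T.isoSpec.hom) l
        (Spec.map ψ) gV :=
      key.flip.of_iso (Iso.refl _) T.isoSpec (Iso.refl _) V.toScheme.isoSpec (by simp) (by simp)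
        (by rw [hψ]; simp [φ]) (by simp [gV])
    have := isQuasiAffine_of_iso (Y := W) sq'.isoPullback.inv
    exact isQuasiAffine_of_pullback ψ gV

end Groth.Agent.FpqcDescent
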