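import Mathlib.RingTheory.Flat.FaithfullyFlat.Algebra
import Mathlib.RingTheory.TensorProduct.Basic
import Mathlib.LinearAlgebra.TensorProduct.Tower

set_option autoImplicit false

universe u

open TensorProduct

namespace Groth.Agent.FpqcDescent.Amitsur

variable (R A : Type u) [CommRing R] [CommRing A] [Algebra R A] (M : Type u) [AddCommGroup M]
  [Module R M]

/-- Multiply the first two factors. -/
noncomputable def contract (X : Type u) [AddCommGroup X] [Module R X] :
    A ⊗[R] (A ⊗[R] X) →ₗ[R] A ⊗[R] X :=
  (LinearMap.mul' R A).rTensor X ∘ₗ (TensorProduct.assoc R A A X).symm.toLinearMap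

@[simp] lemma contract_tmul {X : Type u} [AddCommGroup X] [Module R X] (a b : A) (x : X) :
    contract R A X (a ⊗ₜ (b ⊗ₜ x)) = (a * b) ⊗ₜ x := by
  simp [contract]

variable [Module.FaithfullyFlat R A]

theorem exact_mk_sub :
    Function.Exact (TensorProduct.mk R A M 1)
      (TensorProduct.mk R A (A ⊗[R] M) 1 - (TensorProduct.mk R A M 1).lTensor A) := by
  refine Module.FaithfullyFlat.lTensor_reflects_exact R A _ _ fun z ↦ ⟨fun hz ↦ ?_, ?_⟩
  · refine ⟨contract R A M z, ?_⟩
    have key : (TensorProduct.mk R A M 1).lTensor A ∘ₗ contract R A M =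
        LinearMap.id - contract R A (A ⊗[R] M) ∘ₗ
          ((TensorProduct.mk R A (A ⊗[R] M) 1 - (TensorProduct.mk R A M 1).lTensor A).lTensor A) := by
      ext a b m
      simp [tmul_sub]
    have := LinearMap.congr_fun key z
    simp only [LinearMap.coe_comp, Function.comp_apply, LinearMap.sub_apply, LinearMap.id_coe, id_eq] at this
    rw [this, hz, map_zero, sub_zero]
  · rintro ⟨w, rfl⟩
    induction w using TensorProduct.induction_on with
    | zero => simp
    | tmul a m => simp [tmul_sub]
    | add x y hx hy => rw [map_add, map_add, hx, hy, add_zero]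

theorem mem_range_mk (x : A ⊗[R] M)
    (hx : TensorProduct.mk R A (A ⊗[R] M) 1 x = LinearMap.lTensor A (TensorProduct.mk R A M 1) x) :
    x ∈ LinearMap.range (TensorProduct.mk R A M 1) :=
  ((exact_mk_sub R A M) x).mp (by rw [LinearMap.sub_apply, hx, sub_self])

theorem exact_amitsur_one :
    Function.Exact
      (LinearMap.lTensor M (Algebra.TensorProduct.includeRight : A →ₐ[R] A ⊗[R] A).toLinearMap -
        LinearMap.lTensor M
          (Algebra.TensorProduct.includeLeft : A →ₐ[R] A ⊗[R] A).toLinearMap)
      (LinearMap.lTensor M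
          (Algebra.TensorProduct.includeRight : A ⊗[R] A →ₐ[R] A ⊗[R] (A ⊗[R] A)).toLinearMap -
        LinearMap.lTensor M
          (Algebra.TensorProduct.map (AlgHom.id R A)
            (Algebra.TensorProduct.includeRight : A →ₐ[R] A ⊗[R] A)).toLinearMap +
        LinearMap.lTensor M
          (Algebra.TensorProduct.map (AlgHom.id R A)
            (Algebra.TensorProduct.includeLeft : A →ₐ[R] A ⊗[R] A)).toLinearMap) := by
  let d1 := LinearMap.lTensor M (Algebra.TensorProduct.includeRight : A →ₐ[R] A ⊗[R] A).toLinearMap -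
        LinearMap.lTensor M
          (Algebra.TensorProduct.includeLeft : A →ₐ[R] A ⊗[R] A).toLinearMap
  let d2 := LinearMap.lTensor M
          (Algebra.TensorProduct.includeRight : A ⊗[R] A →ₐ[R] A ⊗[R] (A ⊗[R] A)).toLinearMap -
        LinearMap.lTensor M
          (Algebra.TensorProduct.map (AlgHom.id R A)
            (Algebra.TensorProduct.includeRight : A →ₐ[R] A ⊗[R] A)).toLinearMap +
        LinearMap.lTensor M
          (Algebra.TensorProduct.map (AlgHom.id R A)
            (Algebra.TensorProduct.includeLeft : A →ₐ[R] A ⊗[R] A)).toLinearMap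
  refine Module.FaithfullyFlat.lTensor_reflects_exact R A d1 d2 fun z ↦ ⟨fun hz ↦ ?_, ?_⟩
  · let h1 : A ⊗[R] (M ⊗[R] (A ⊗[R] A)) →ₗ[R] A ⊗[R] (M ⊗[R] A) :=
      contract R A (M ⊗[R] A) ∘ₗ (TensorProduct.leftComm R M A A).toLinearMap.lTensor A
    let h2 : A ⊗[R] (M ⊗[R] (A ⊗[R] (A ⊗[R] A))) →ₗ[R] A ⊗[R] (M ⊗[R] (A ⊗[R] A)) :=
      contract R A (M ⊗[R] (A ⊗[R] A)) ∘ₗ
        (TensorProduct.leftComm R M A (A ⊗[R] A)).toLinearMap.lTensor A
    have key : d1.lTensor A ∘ₗ h1 = LinearMap.id - h2 ∘ₗ d2.lTensor A := by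
      refine TensorProduct.ext' fun a w ↦ ?_
      induction w using TensorProduct.induction_on with
      | zero => simp
      | tmul m y =>
        induction y using TensorProduct.induction_on with
        | zero => simp
        | tmul b c => simp [h1, h2, d1, d2, tmul_sub, tmul_add]; abel
        | add x y hx hy => simp only [tmul_add, map_add, hx, hy]
      | add x y hx hy => simp only [tmul_add, map_add, hx, hy]
    refine ⟨h1 z, ?_⟩
    have := LinearMap.congr_fun key z
    simp only [LinearMap.coe_comp, Function.comp_apply, LinearMap.sub_apply, LinearMap.id_coe, id_eq] at this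
    rw [this, hz, map_zero, sub_zero]
  · rintro ⟨w, rfl⟩
    induction w using TensorProduct.induction_on with
    | zero => simp
    | tmul a y =>
      induction y using TensorProduct.induction_on with
      | zero => simp
      | tmul m b => simp [d1, d2, Algebra.TensorProduct.one_def]
      | add x y hx hy => simp only [tmul_add, map_add, hx, hy, add_zero]
    | add x y hx hy => simp only [map_add, hx, hy, add_zero]

theorem existsUnique_baseChange (N : Type u) [AddCommGroup N] [Module R N]
    (f : A ⊗[R] M →ₗ[A] A ⊗[R] N)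
    (hf : ∀ m : M,
      LinearMap.rTensor N (Algebra.TensorProduct.includeLeft : A →ₐ[R] A ⊗[R] A).toLinearMap (f (1 ⊗ₜ[R] m)) =
        LinearMap.rTensor N (Algebra.TensorProduct.includeRight : A →ₐ[R] A ⊗[R] A).toLinearMap (f (1 ⊗ₜ[R] m))) :
    ∃! h : M →ₗ[R] N, h.baseChange A = f := by
  have hinj : Function.Injective (TensorProduct.mk R A N 1) :=
    Module.FaithfullyFlat.tensorProduct_mk_injective N
  have hmem : ∀ m : M, f (1 ⊗ₜ m) ∈ LinearMap.range (TensorProduct.mk R A N 1) := fun m ↦ by
    refine mem_range_mk R A N _ ?_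
    have e : ∀ y : A ⊗[R] N,
        TensorProduct.assoc R A A N (LinearMap.rTensor N
          (Algebra.TensorProduct.includeRight : A →ₐ[R] A ⊗[R] A).toLinearMap y) =
            TensorProduct.mk R A (A ⊗[R] N) 1 y ∧
        TensorProduct.assoc R A A N (LinearMap.rTensor N
          (Algebra.TensorProduct.includeLeft : A →ₐ[R] A ⊗[R] A).toLinearMap y) =
            LinearMap.lTensor A (TensorProduct.mk R A N 1) y := fun y ↦ by
      induction y using TensorProduct.induction_on with
      | zero => simp
      | tmul a n => simp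
      | add x y hx hy => simp only [map_add, hx, hy, and_self]
    rw [← (e _).1, ← (e _).2, hf m]
  let g : M →ₗ[R] N := (LinearEquiv.ofInjective _ hinj).symm.toLinearMap ∘ₗ
    LinearMap.codRestrict _ ((f.restrictScalars R) ∘ₗ TensorProduct.mk R A M 1) hmem
  have hg : ∀ m, (1 : A) ⊗ₜ[R] g m = f (1 ⊗ₜ m) := fun m ↦
    congrArg Subtype.val ((LinearEquiv.ofInjective _ hinj).apply_symm_apply ⟨_, hmem m⟩)
  refine ⟨g, ?_, fun k hk ↦ ?_⟩
  · ext m
    simp [hg]
  · ext m
    refine hinj ?_
    change (1 : A) ⊗ₜ[R] k m = (1 : A) ⊗ₜ[R] g m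
    rw [hg, ← hk]
    simp

end Groth.Agent.FpqcDescent.Amitsur
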