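import Mathlib.AlgebraicGeometry.Sites.Fpqc
import Mathlib.AlgebraicGeometry.Morphisms.UnderlyingMap
import Mathlib.AlgebraicGeometry.Morphisms.UniversallyOpen

set_option autoImplicit false
set_option backward.isDefEq.respectTransparency.types false

universe u

open CategoryTheory Limits MorphismProperty

namespace Groth.Agent.FpqcDescent

open AlgebraicGeometry

lemma mem_fppf_iff {ι : Type*} {S : Scheme.{u}} {X : ι → Scheme.{u}} (f : ∀ i, X i ⟶ S)
    (h : Presieve.ofArrows X f ∈ Scheme.fppfPrecoverage S) :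
    (∀ s, ∃ i, s ∈ Set.range (f i)) ∧ ∀ i, UniversallyOpen (f i) := by
  obtain ⟨h1, h2⟩ := (Scheme.ofArrows_mem_precoverage_iff _).mp h
  refine ⟨h1, fun i ↦ ?_⟩
  have : Flat (f i) := (h2 i).1
  have : LocallyOfFinitePresentation (f i) := (h2 i).2
  infer_instance

instance respectsIso_isOpenMap :
    RespectsIso (topologically (fun f => IsOpenMap f) : MorphismProperty Scheme.{u}) := by
  apply topologically_respectsIso
  · intro α β _ _ e
    exact e.isOpenMap
  · intro α β γ _ _ _ f g hf hg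
    exact hg.comp hf

lemma isOpenMap_of_cover {ι : Type*} {X : Scheme.{u}} {Z : Type u} [TopologicalSpace Z]
    {U : ι → Scheme.{u}} (g : ∀ i, U i ⟶ X) (hg : ∀ x, ∃ i, x ∈ Set.range (g i)) (f : X → Z)
    (h : ∀ i, IsOpenMap (f ∘ g i)) : IsOpenMap f := by
  intro W hW
  have : f '' W = ⋃ i, (f ∘ g i) '' ((g i) ⁻¹' W) := by
    ext z
    simp only [Set.mem_image, Set.mem_iUnion, Function.comp_apply, Set.mem_preimage]
    constructor
    · rintro ⟨x, hx, rfl⟩
      obtain ⟨i, u, rfl⟩ := hg x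
      exact ⟨i, u, hx, rfl⟩
    · rintro ⟨i, u, hu, rfl⟩
      exact ⟨_, hu, rfl⟩
  rw [this]
  exact isOpen_iUnion fun i ↦ h i _ (hW.preimage (g i).continuous)

lemma isOpenMap_isLocalAtSource :
    IsLocalAtSource (topologically (fun f => IsOpenMap f) : MorphismProperty Scheme.{u})
      Scheme.fppfPrecoverage := by
  refine .mk_of_iff_of_zeroHypercover fun {X Y} f 𝒰 ↦ ?_
  obtain ⟨h1, h2⟩ := mem_fppf_iff _ 𝒰.mem₀
  refine ⟨fun hf i ↦ ?_, fun h ↦ ?_⟩
  · have := h2 i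
    exact hf.comp (𝒰.f i).isOpenMap
  · exact isOpenMap_of_cover 𝒰.f h1 f h

lemma universallyOpen_isLocalAtSource :
    IsLocalAtSource (@UniversallyOpen : MorphismProperty Scheme.{u}) Scheme.fppfPrecoverage := by
  refine .mk_of_iff_of_zeroHypercover fun {X Y} f 𝒰 ↦ ?_
  obtain ⟨h1, h2⟩ := mem_fppf_iff _ 𝒰.mem₀
  refine ⟨fun hf i ↦ have := h2 i; inferInstance, fun h ↦ ⟨fun {X' Y'} i₁ i₂ f' hsq ↦ ?_⟩⟩
  refine isOpenMap_of_cover (fun i ↦ pullback.snd (𝒰.f i) i₁) (fun x ↦ ?_) f' fun i ↦ ?_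
  · obtain ⟨i, v, hv⟩ := h1 (i₁ x)
    obtain ⟨w, -, hw⟩ := Scheme.Pullback.exists_preimage_pullback v x hv
    exact ⟨i, w, hw⟩
  · exact (h i).universally_isOpenMap _ _ _
      ((IsPullback.of_hasPullback (𝒰.f i) i₁).flip.paste_horiz hsq)

lemma isDominant_isLocalAtTarget :
    IsLocalAtTarget (@IsDominant : MorphismProperty Scheme.{u}) Scheme.fppfPrecoverage := by
  have : RespectsIso (@IsDominant : MorphismProperty Scheme.{u}) := inferInstance
  refine .mk_of_iff fun X Y f R hR ↦ ?_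
  rw [Scheme.fppfPrecoverage] at hR
  rw [Precoverage.mem_iff_exists_zeroHypercover] at hR
  obtain ⟨𝒰, rfl⟩ := hR
  obtain ⟨h1, h2⟩ := mem_fppf_iff _ 𝒰.mem₀
  constructor
  · intro hf U g _ hg
    cases hg with
    | mk i =>
      have := h2 i
      refine ⟨?_⟩
      rw [DenseRange, Scheme.Pullback.range_snd]
      exact hf.denseRange.preimage (𝒰.f i).isOpenMap
  · intro h
    refine ⟨dense_iff_inter_open.mpr fun W hW ⟨y, hy⟩ ↦ ?_⟩
    obtain ⟨i, v, rfl⟩ := h1 y
    have hd := (h (𝒰.f i) ⟨i⟩).denseRange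
    rw [DenseRange, Scheme.Pullback.range_snd] at hd
    obtain ⟨w, hw, x, hx⟩ := dense_iff_inter_open.mp hd _ (hW.preimage (𝒰.f i).continuous) ⟨v, hy⟩
    exact ⟨𝒰.f i w, hw, x, hx⟩

end Groth.Agent.FpqcDescent
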